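import Mathlib
import Cfsg.Agent.H717.FieldOf

/-!
# S5731, the affine core: interface

`V` a finite abelian group of prime exponent `p`, `H` a finite group acting faithfully by automorphisms,
`c(h) = |C_V(h)|`.

* `fixc h` : `c(h)`;
* `Tgt V H` : `∑ h, (1 - 1 / c(h)) ≥ (√n + 1) / (2 n) |H|`, `n = |V|` (the number of derangements of `V ⋊ H` is
  `n ∑ h, (1 - 1 / c(h))`);
* `rnk H v` : the number of orbits of `H_v` on the orbit of `v`;
* `KA V M` (H717) : the ring generated by `M` in `End V`; `Homog V M` : `V` is semisimple and isotypic for `M`;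
* `DimGe V M b` : the simple `M`-submodules `W` have dimension `≥ b` over `End_M W`;
* `BNCase LP`, `SmallCase LP` : the two inputs for the simple groups, `LP p T` = "`T` is of Lie type in
  characteristic `p`".
-/

set_option autoImplicit false

namespace Cfsg.Agent.H192.Af

open Cfsg.Agent.H717.FieldOf

universe u v

section defs

variable (V : Type u) [AddCommGroup V] {H : Type v} [Group H] [DistribMulAction H V]

/-- the number of fixed vectors of `h` -/
noncomputable def fixc (h : H) : ℕ := Nat.card {w : V // h • w = w}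

/-- the number of orbits of the stabiliser of `w` on the orbit of `w` -/
noncomputable def rnk (H : Type v) [Group H] [DistribMulAction H V] (w : V) : ℕ :=
  Nat.card (MulAction.orbitRel.Quotient (MulAction.stabilizer H w) (MulAction.orbit H w))

/-- **the target** for the affine group `V ⋊ H` -/
def Tgt (H : Type v) [Group H] [DistribMulAction H V] : Prop :=
  (Real.sqrt (Nat.card V) + 1) / (2 * Nat.card V) * (Nat.card H : ℝ) ≤ ∑ᶠ h : H, (1 - 1 / (fixc V h : ℝ))

/-- `V` is a semisimple and homogeneous module of the subgroup `M` -/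
def Homog (M : Subgroup H) : Prop := IsSemisimpleModule (KA V M) V ∧ IsIsotypic (KA V M) V

/-- the simple submodules have dimension at least `b` over their endomorphism rings -/
def DimGe (M : Subgroup H) (b : ℕ) : Prop :=
  ∀ W : Submodule (KA V M) V, IsSimpleModule (KA V M) W → b ≤ Module.finrank (Module.End (KA V M) W) W

/-- `y` has a non-zero fixed vector in every non-zero `M`-invariant subgroup of `V` -/
def FixAll (M : Subgroup H) (y : H) : Prop :=
  ∀ U : AddSubgroup V, U ≠ ⊥ → (∀ h ∈ M, ∀ w ∈ U, h • w ∈ U) → ∃ w ∈ U, w ≠ 0 ∧ y • w = w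

end defs

section grp

variable {H : Type v} [Group H]

/-- a non-abelian normal subgroup all of whose proper `H`-invariant subgroups are central in it -/
structure MinNA (M : Subgroup H) : Prop where
  normal : M.Normal
  nonab : ¬ IsMulCommutative M
  min : ∀ K : Subgroup H, K.Normal → K < M → ∀ k ∈ K, ∀ m ∈ M, k * m = m * k

/-- the elements of `H` centralising `y` modulo the centraliser of `M` (for `y ∈ M`: modulo `Z(M)`) -/
def sty (M : Subgroup H) [hM : M.Normal] (y : H) : Subgroup H where
  carrier := {h | h * y * h⁻¹ * y⁻¹ ∈ Subgroup.centralizer (M : Set H)}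
  one_mem' := by
    show (1 : H) * y * (1 : H)⁻¹ * y⁻¹ ∈ Subgroup.centralizer (M : Set H)
    rw [one_mul, inv_one, mul_one, mul_inv_cancel]
    exact one_mem _
  mul_mem' := by
    intro a b ha hb
    have ha' : a * y * a⁻¹ * y⁻¹ ∈ Subgroup.centralizer (M : Set H) := ha
    have hb' : b * y * b⁻¹ * y⁻¹ ∈ Subgroup.centralizer (M : Set H) := hb
    have h1 : a * (b * y * b⁻¹ * y⁻¹) * a⁻¹ ∈ Subgroup.centralizer (M : Set H) :=
      (inferInstance : (Subgroup.centralizer (M : Set H)).Normal).conj_mem _ hb' a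
    have h2 := mul_mem h1 ha'
    have h3 : a * (b * y * b⁻¹ * y⁻¹) * a⁻¹ * (a * y * a⁻¹ * y⁻¹) = a * b * y * (a * b)⁻¹ * y⁻¹ := by group
    rw [h3] at h2
    exact h2
  inv_mem' := by
    intro a ha
    have ha' : a * y * a⁻¹ * y⁻¹ ∈ Subgroup.centralizer (M : Set H) := ha
    have h1 : a⁻¹ * (a * y * a⁻¹ * y⁻¹)⁻¹ * a⁻¹⁻¹ ∈ Subgroup.centralizer (M : Set H) :=
      (inferInstance : (Subgroup.centralizer (M : Set H)).Normal).conj_mem _ (inv_mem ha') a⁻¹
    have h3 : a⁻¹ * (a * y * a⁻¹ * y⁻¹)⁻¹ * a⁻¹⁻¹ = a⁻¹ * y * a⁻¹⁻¹ * y⁻¹ := by group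
    rw [h3] at h1
    exact h1

/-- `κ(M, y) = |S_y : C_H(M)|`, the number of automorphisms of `M` induced by the elements of `H` fixing `y`
modulo `Z(M)` -/
noncomputable def kap (M : Subgroup H) [M.Normal] (y : H) : ℕ := (Subgroup.centralizer (M : Set H)).relIndex (sty M y)

end grp

/-- **Lie type in characteristic `p`**: the target holds, or the elements with more than `√n` fixed vectors centralise
`M` -/
def BNCase (LP : ∀ (_ : ℕ) (T : Type v) [Group T], Prop) : Prop :=
  ∃ N : ℕ, ∀ (p : ℕ) (V : Type u) [AddCommGroup V] [Finite V] (H : Type v) [Group H] [Finite H]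
    [DistribMulAction H V] [FaithfulSMul H V] (M : Subgroup H) [M.Normal] (T : Type v) [Group T] [IsSimpleGroup T]
    (s : ℕ), p.Prime → (∀ w : V, p • w = 0) → (∀ K : Subgroup H, K.Normal → Homog V K) →
    commutator M = ⊤ → 0 < s → Nonempty (M ⧸ Subgroup.center M ≃* (Fin s → T)) → ¬ IsMulCommutative T →
    LP p T → N ≤ Nat.card V → Tgt V H ∨ ∀ h : H, Nat.card V < fixc V h ^ 2 → ∀ x ∈ M, h * x = x * h

/-- **all other simple groups**: for every `m` and every large simple group `T` not of Lie type in characteristic `p`,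
every perfect central extension `L` of `T` contains `y`, with a non-zero fixed vector in every module of exponent `p`,
such that (number of automorphisms of `L / Z` fixing `y Z`) `^ m ≤ |X|` for all non-trivial modules `X` of exponent
`p`. -/
def SmallCase (LP : ∀ (_ : ℕ) (T : Type v) [Group T], Prop) : Prop :=
  ∀ m : ℕ, ∃ K : ℕ, ∀ (p : ℕ) (T : Type v) [Group T] [Finite T] [IsSimpleGroup T], p.Prime →
    ¬ IsMulCommutative T → K ≤ Nat.card T → ¬ LP p T →
    ∀ (L : Type v) [Group L] [Finite L], commutator L = ⊤ → Nonempty (L ⧸ Subgroup.center L ≃* T) →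
    ∃ y : L, (∀ (X : Type u) [AddCommGroup X] [Finite X] [DistribMulAction L X], Nontrivial X →
        (∀ x : X, p • x = 0) → ∃ x : X, x ≠ 0 ∧ y • x = x) ∧
      (∀ (X : Type u) [AddCommGroup X] [Finite X] [DistribMulAction L X], (∀ x : X, p • x = 0) →
        (∃ (l : L) (x : X), l • x ≠ x) →
        Nat.card {α : MulAut (L ⧸ Subgroup.center L) // α (y : L ⧸ Subgroup.center L) = y} ^ m ≤ Nat.card X)

end Cfsg.Agent.H192.Af
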