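import Mathlib

/-!
# S5731, piece (A): the parameters
-/

set_option autoImplicit false

namespace Cfsg.Agent.H192.Af

/-- blocks of prime length about the square root of the degree -/
theorem exists_params {k : ℕ} (hk : 100 ≤ k) (p : ℕ) (hp : p.Prime) : ∃ r t m : ℕ, r.Prime ∧ r ≠ 2 ∧ r.Coprime p ∧
    0 < t ∧ 5 ≤ r * t ∧ 2 ≤ m ∧ 2 * (r * t) + m = k ∧ 6 * t + m ≤ 12 * Nat.sqrt k := by
  set x := Nat.sqrt k with hx
  have hx10 : 10 ≤ x := by
    rw [hx, Nat.le_sqrt]; exact hk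
  have hx1 : x * x ≤ k := Nat.sqrt_le k
  have hx2 : k < (x + 1) * (x + 1) := by simpa using Nat.lt_succ_sqrt k
  obtain ⟨r₁, h1p, h1a, h1b⟩ := Nat.exists_prime_lt_and_le_two_mul x (by omega)
  obtain ⟨r₂, h2p, h2a, h2b⟩ := Nat.exists_prime_lt_and_le_two_mul (2 * x) (by omega)
  obtain ⟨r, hr, hra, hrb, hrp⟩ : ∃ r, r.Prime ∧ x < r ∧ r ≤ 4 * x ∧ r ≠ p := by
    by_cases h : r₁ = p
    · exact ⟨r₂, h2p, by omega, by omega, by omega⟩
    · exact ⟨r₁, h1p, h1a, by omega, h⟩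
  set t := (k - 2) / (2 * r) with ht
  set m := 2 + (k - 2) % (2 * r) with hm
  have hdiv : 2 * r * t + (k - 2) % (2 * r) = k - 2 := Nat.div_add_mod _ _
  have hmod : (k - 2) % (2 * r) < 2 * r := Nat.mod_lt _ (by omega)
  have ht0 : 0 < t := by
    rw [ht]
    apply Nat.div_pos _ (by omega)
    have : 10 * x ≤ x * x := Nat.mul_le_mul_right x hx10
    omega
  have hsum : 2 * (r * t) + m = k := by
    rw [hm]
    have : 2 * (r * t) = 2 * r * t := by ring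
    omega
  refine ⟨r, t, m, hr, by omega, (Nat.coprime_primes hr hp).2 hrp, ht0, ?_, by omega, hsum, ?_⟩
  · nlinarith
  · have h3 : 2 * t ≤ x := by
      by_contra hcon
      push Not at hcon
      have h4 : (x + 1) * (x + 1) ≤ 2 * (r * t) := by
        have : (x + 1) * (x + 1) ≤ r * (2 * t) := Nat.mul_le_mul (by omega) (by omega)
        calc (x + 1) * (x + 1) ≤ r * (2 * t) := this
          _ = 2 * (r * t) := by ring
      omega
    omega

/-- polynomial against exponential growth -/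
theorem exists_bound (M : ℕ) : ∃ K : ℕ, 100 ≤ K ∧ ∀ k : ℕ, K ≤ k → (k ^ (12 * Nat.sqrt k)) ^ M ≤ 2 ^ k := by
  have h1 := (isLittleO_pow_const_const_pow_of_one_lt (R := ℝ) (24 * M) (r := 2) (by norm_num)).bound
    (c := ((2 : ℝ) ^ (12 * M))⁻¹) (by positivity)
  obtain ⟨X, hX⟩ := Filter.eventually_atTop.1 h1
  refine ⟨(X + 10) * (X + 10), by nlinarith, fun k hk => ?_⟩
  set x := Nat.sqrt k with hx
  have hxX : X + 10 ≤ x := by rw [hx, Nat.le_sqrt]; exact hk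
  have hx1 : x * x ≤ k := Nat.sqrt_le k
  have hx2 : k < (x + 1) * (x + 1) := by simpa using Nat.lt_succ_sqrt k
  have hk2 : k ≤ 2 * x ^ 2 := by nlinarith
  have h3 := hX x (by omega)
  have h4 : (x : ℝ) ^ (24 * M) ≤ ((2 : ℝ) ^ (12 * M))⁻¹ * 2 ^ x := by
    have e1 : ‖(x : ℝ) ^ (24 * M)‖ = (x : ℝ) ^ (24 * M) := by
      rw [Real.norm_eq_abs, abs_of_nonneg (by positivity)]
    have e2 : ‖(2 : ℝ) ^ x‖ = (2 : ℝ) ^ x := by
      rw [Real.norm_eq_abs, abs_of_nonneg (by positivity)]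
    rw [e1, e2] at h3
    exact h3
  have h5 : (2 * x ^ 2) ^ (12 * M) ≤ 2 ^ x := by
    have h6 : ((2 : ℝ) * x ^ 2) ^ (12 * M) ≤ 2 ^ x := by
      rw [mul_pow, ← pow_mul, show 2 * (12 * M) = 24 * M by ring]
      calc (2 : ℝ) ^ (12 * M) * x ^ (24 * M) ≤ (2 : ℝ) ^ (12 * M) * (((2 : ℝ) ^ (12 * M))⁻¹ * 2 ^ x) := by
            gcongr
        _ = 2 ^ x := by rw [← mul_assoc, mul_inv_cancel₀ (by positivity), one_mul]
    exact_mod_cast h6
  calc (k ^ (12 * x)) ^ M ≤ ((2 * x ^ 2) ^ (12 * x)) ^ M := by gcongr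
    _ = ((2 * x ^ 2) ^ (12 * M)) ^ x := by rw [← pow_mul, ← pow_mul]; congr 1; ring
    _ ≤ (2 ^ x) ^ x := by gcongr
    _ = 2 ^ (x * x) := by rw [← pow_mul]
    _ ≤ 2 ^ k := Nat.pow_le_pow_right (by norm_num) hx1

end Cfsg.Agent.H192.Af
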