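import Cfsg.Agent.H192.Af.Main
import Cfsg.Agent.H192.Af.Num
import Cfsg.Agent.StandardComponent.AltAut
import Cfsg.Agent.S0892

/-!
# S5731, piece (A): alternating components, final form

`alt_elt` : for every `M` and all large `k`: a finite perfect central extension `L` of `Alt k` and a prime `p`; some
`y ∈ L` has a non-zero fixed vector in every non-zero `L`-module of exponent `p`, and its image `ȳ` satisfies
`|C_{Sym k}(ȳ)| ^ M ≤ 2 ^ k`. `alt_elt_aut`: the same for the automorphisms of `L / Z` fixing `ȳ`.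
-/

set_option autoImplicit false

namespace Cfsg.Agent.H192.Af

open Equiv Equiv.Perm

/-- centralisers are transported by a relabelling of the points -/
theorem card_centralizer_permCongr {α β : Type*} [Finite α] [Finite β] (f : α ≃ β) (x : Perm α) :
    Nat.card (Subgroup.centralizer ({f.permCongrHom x} : Set (Perm β)))
      = Nat.card (Subgroup.centralizer ({x} : Set (Perm α))) := by
  have h : ∀ s : Perm α, s ∈ Subgroup.centralizer ({x} : Set (Perm α)) ↔
      f.permCongrHom s ∈ Subgroup.centralizer ({f.permCongrHom x} : Set (Perm β)) := by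
    intro s
    rw [Subgroup.mem_centralizer_singleton_iff, Subgroup.mem_centralizer_singleton_iff, ← map_mul, ← map_mul]
    exact f.permCongrHom.injective.eq_iff.symm
  refine (Nat.card_congr ?_).symm
  exact (f.permCongrHom.toEquiv.subtypeEquiv fun s => h s)

/-- **Alternating components.** -/
theorem alt_elt.{u, v} (M : ℕ) : ∃ K : ℕ, 100 ≤ K ∧ ∀ k : ℕ, K ≤ k → ∀ p : ℕ, p.Prime → ∀ (L : Type u) [Group L]
    [Finite L] (Z : Subgroup L) [Z.Normal], Z ≤ Subgroup.center L → commutator L = ⊤ →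
    ∀ e : L ⧸ Z ≃* alternatingGroup (Fin k), ∃ y : L,
      (∀ (V : Type v) [AddCommGroup V] [DistribMulAction L V], Nontrivial V → (∀ v : V, p • v = 0) →
        ∃ w : V, w ≠ 0 ∧ y • w = w) ∧
      Nat.card (Subgroup.centralizer ({((e (y : L ⧸ Z) : alternatingGroup (Fin k)) : Perm (Fin k))} :
        Set (Perm (Fin k)))) ^ M ≤ 2 ^ k := by
  obtain ⟨K, hK100, hK⟩ := exists_bound M
  refine ⟨K, hK100, fun k hk p hp L _ _ Z _ hZ hL e => ?_⟩
  classical
  obtain ⟨r, t, m, hr, hr2, hrp, ht, h5, hm, hsum, hle⟩ := exists_params (hK100.trans hk) p hp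
  haveI : Fact r.Prime := ⟨hr⟩
  haveI : NeZero r := ⟨hr.ne_zero⟩
  -- the kernel
  have hZ2 : Nat.card Z ≤ 2 :=
    Cfsg.Agent.S0892.result k (by omega) (by omega) (by omega) Z hZ (by rw [hL]; exact le_top) e
  have hZz : ∀ z ∈ Z, z * z = 1 := by
    intro z hz
    have h1 : orderOf (⟨z, hz⟩ : Z) ∣ Nat.card Z := orderOf_dvd_natCard _
    have h2 : orderOf (⟨z, hz⟩ : Z) ≤ 2 := (Nat.le_of_dvd Nat.card_pos h1).trans hZ2
    have h3 : 0 < orderOf (⟨z, hz⟩ : Z) := orderOf_pos _
    have h4 : (⟨z, hz⟩ : Z) ^ 2 = 1 := by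
      apply orderOf_dvd_iff_pow_eq_one.1
      interval_cases h : orderOf (⟨z, hz⟩ : Z)
      · exact one_dvd _
      · exact dvd_refl _
    have h5 := congrArg Subtype.val h4
    rw [← pow_two]
    exact h5
  -- the points
  have hcard : Fintype.card (Fin k) = Fintype.card (Pt r t m) := by
    rw [card_pt, Fintype.card_fin, hsum]
  let f : Fin k ≃ Pt r t m := Fintype.equivOfCardEq hcard
  let π : L →* alternatingGroup (Pt r t m) :=
    (f.altCongrHom.toMonoidHom.comp e.toMonoidHom).comp (QuotientGroup.mk' Z)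
  have hπapp : ∀ l : L, π l = f.altCongrHom (e (l : L ⧸ Z)) := fun _ => rfl
  have hπ : Function.Surjective π := by
    intro a
    obtain ⟨b, hb⟩ := f.altCongrHom.surjective a
    obtain ⟨c, hc⟩ := e.surjective b
    obtain ⟨l, hl⟩ := QuotientGroup.mk'_surjective Z c
    refine ⟨l, ?_⟩
    rw [hπapp, ← hb, ← hc, ← hl]; rfl
  have hker : π.ker = Z := by
    ext l
    rw [MonoidHom.mem_ker, hπapp, map_eq_one_iff _ f.altCongrHom.injective, map_eq_one_iff _ e.injective,
      QuotientGroup.eq_one_iff]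
  obtain ⟨y, hy1, hy2⟩ := exists_elt.{u, v} hr2 ht h5 hm hL π hπ (by rw [hker]; exact hZ) (by rw [hker]; exact hZz)
  refine ⟨y, fun V _ _ hV hpV => hy1 p hrp V hV hpV, ?_⟩
  have h1 : (((π y : alternatingGroup (Pt r t m)) : Perm (Pt r t m)))
      = f.permCongrHom ((e (y : L ⧸ Z) : alternatingGroup (Fin k)) : Perm (Fin k)) := rfl
  rw [h1, card_centralizer_permCongr, hsum] at hy2
  refine le_trans ?_ (hK k hk)
  refine Nat.pow_le_pow_left (hy2.trans (Nat.pow_le_pow_right (by omega) hle)) M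

/-- the automorphisms of `Q ≅ Alt k` fixing `q` are at most as many as the permutations commuting with it -/
theorem card_fix_le {k : ℕ} (hk : 7 ≤ k) {Q : Type*} [Group Q] [Finite Q] (e : Q ≃* alternatingGroup (Fin k)) (q : Q) :
    Nat.card {α : MulAut Q // α q = q}
      ≤ Nat.card (Subgroup.centralizer ({((e q : alternatingGroup (Fin k)) : Perm (Fin k))} : Set (Perm (Fin k)))) := by
  classical
  obtain ⟨ψ, hψ⟩ := Cfsg.Agent.StandardComponent.AltAut.exists_autHom k hk
  let F : MulAut Q → MulAut (alternatingGroup (Fin k)) := fun α => (e.symm.trans α).trans e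
  have hF : ∀ (α : MulAut Q) (x : alternatingGroup (Fin k)), F α x = e (α (e.symm x)) := fun _ _ => rfl
  let f : {α : MulAut Q // α q = q} →
      Subgroup.centralizer ({((e q : alternatingGroup (Fin k)) : Perm (Fin k))} : Set (Perm (Fin k))) :=
    fun α => ⟨ψ (F α.1), by
      rw [Subgroup.mem_centralizer_singleton_iff]
      have h1 := hψ (F α.1) (e q)
      rw [hF, e.symm_apply_apply, α.2] at h1
      exact (eq_mul_inv_iff_mul_eq.1 h1).symm⟩
  refine Nat.card_le_card_of_injective f ?_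
  intro α β hαβ
  have h1 : ψ (F α.1) = ψ (F β.1) := congrArg Subtype.val hαβ
  apply Subtype.ext
  ext x
  apply e.injective
  have h2 := hψ (F α.1) (e x)
  have h3 := hψ (F β.1) (e x)
  rw [hF, e.symm_apply_apply] at h2 h3
  apply Subtype.ext
  rw [h2, h3, h1]

/-- **Alternating components**, with the automorphisms of `L / Z` fixing the element. -/
theorem alt_elt_aut.{u, v} (M : ℕ) : ∃ K : ℕ, 100 ≤ K ∧ ∀ k : ℕ, K ≤ k → ∀ p : ℕ, p.Prime → ∀ (L : Type u) [Group L]
    [Finite L] (Z : Subgroup L) [Z.Normal], Z ≤ Subgroup.center L → commutator L = ⊤ →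
    ∀ _ : L ⧸ Z ≃* alternatingGroup (Fin k), ∃ y : L,
      (∀ (V : Type v) [AddCommGroup V] [DistribMulAction L V], Nontrivial V → (∀ v : V, p • v = 0) →
        ∃ w : V, w ≠ 0 ∧ y • w = w) ∧
      Nat.card {α : MulAut (L ⧸ Z) // α (y : L ⧸ Z) = y} ^ M ≤ 2 ^ k := by
  obtain ⟨K, hK100, hK⟩ := alt_elt.{u, v} M
  refine ⟨K, hK100, fun k hk p hp L _ _ Z _ hZ hL e => ?_⟩
  obtain ⟨y, hy1, hy2⟩ := hK k hk p hp L Z hZ hL e
  exact ⟨y, hy1, (Nat.pow_le_pow_left (card_fix_le (by omega) e _) M).trans hy2⟩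

end Cfsg.Agent.H192.Af
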