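import Mathlib

/-!
# S5731, piece (A): centralisers of permutations with few cycles
-/

set_option autoImplicit false

namespace Cfsg.Agent.H192.Af

open Equiv

/-- A permutation commuting with `y` is determined by its values on representatives of the cycles of `y`. -/
theorem card_centralizer_le {β : Type*} [Fintype β] (y : Perm β) (T : Finset β)
    (h : ∀ b : β, ∃ t ∈ T, ∃ j : ℕ, (y ^ j) t = b) :
    Nat.card (Subgroup.centralizer ({y} : Set (Perm β))) ≤ Fintype.card β ^ T.card := by
  classical
  let f : Subgroup.centralizer ({y} : Set (Perm β)) → (T → β) := fun σ t => (σ : Perm β) t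
  have hf : Function.Injective f := by
    intro σ τ hστ
    apply Subtype.ext
    ext b
    obtain ⟨t, ht, j, rfl⟩ := h b
    have hσ : Commute (σ : Perm β) (y ^ j) :=
      Commute.pow_right (Subgroup.mem_centralizer_singleton_iff.1 σ.2) j
    have hτ : Commute (τ : Perm β) (y ^ j) :=
      Commute.pow_right (Subgroup.mem_centralizer_singleton_iff.1 τ.2) j
    have h1 : (σ : Perm β) ((y ^ j) t) = (y ^ j) ((σ : Perm β) t) := by
      have := congrArg (fun π : Perm β => π t) hσ.eq
      simpa using this
    have h2 : (τ : Perm β) ((y ^ j) t) = (y ^ j) ((τ : Perm β) t) := by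
      have := congrArg (fun π : Perm β => π t) hτ.eq
      simpa using this
    have h3 : (σ : Perm β) t = (τ : Perm β) t := congrFun hστ ⟨t, ht⟩
    rw [h1, h2, h3]
  have h1 := Nat.card_le_card_of_injective f hf
  refine h1.trans (le_of_eq ?_)
  rw [Nat.card_eq_fintype_card, Fintype.card_fun, Fintype.card_coe]

end Cfsg.Agent.H192.Af
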