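import Cfsg.Agent.H192.Af.Hom

/-!
# S5731: the dimension doubles

`two_mul_bb_le` : `W₃` a simple `R₃`-module, `R₁ → R₃`, `W₃ ≅ W₁ ^ k` over `R₁`, `s, t ∈ R₃` commute with `R₁` and do
not commute with each other on `W₃`; then `2 b₁ ≤ b₃`.
-/

set_option autoImplicit false
set_option linter.style.haveILetI false
set_option linter.unusedSectionVars false

namespace Cfsg.Agent.H192.Af

open Module

universe u v w

theorem two_mul_bb_le {R₁ R₃ : Type*} {W₁ W₃ : Type*} [Ring R₁] [Ring R₃] [AddCommGroup W₁] [Module R₁ W₁]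
    [IsSimpleModule R₁ W₁] [Finite W₁] [AddCommGroup W₃] [Module R₃ W₃] [IsSimpleModule R₃ W₃] [Finite W₃]
    [Module R₁ W₃] (f : R₁ →+* R₃) (hf : ∀ (r : R₁) (x : W₃), r • x = f r • x) {k : ℕ}
    (e : W₃ ≃ₗ[R₁] (Fin k → W₁)) (s t : R₃) (hs : ∀ (r : R₁) (x : W₃), s • r • x = r • s • x)
    (ht : ∀ (r : R₁) (x : W₃), t • r • x = r • t • x) (hst : ∃ x : W₃, s • t • x ≠ t • s • x) :
    2 * bb R₁ W₁ ≤ bb R₃ W₃ := by
  classical
  haveI hnt : Nontrivial W₃ := IsSimpleModule.nontrivial R₃ W₃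
  haveI : SMulCommClass R₁ (Module.End R₃ W₃) W₃ := ⟨fun r d x => by
    show r • d x = d (r • x)
    rw [hf, hf, map_smul]⟩
  haveI : Finite (W₁ →ₗ[R₁] W₃) := Finite.of_injective (fun f : W₁ →ₗ[R₁] W₃ => (f : W₁ → W₃)) DFunLike.coe_injective
  haveI : Fintype (W₁ →ₗ[R₁] W₃) := Fintype.ofFinite _
  haveI : Fintype (Module.End R₃ W₃) := Fintype.ofFinite _
  set c := finrank (Module.End R₃ W₃) (W₁ →ₗ[R₁] W₃) with hc
  have hq3 := two_le_qq R₃ W₃
  have hY : Nat.card (W₁ →ₗ[R₁] W₃) = qq R₃ W₃ ^ c := by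
    rw [qq, Nat.card_eq_fintype_card, Nat.card_eq_fintype_card]
    exact Module.card_eq_pow_finrank (K := Module.End R₃ W₃) (V := W₁ →ₗ[R₁] W₃)
  have h1 : Nat.card W₃ = Nat.card (W₁ →ₗ[R₁] W₃) ^ bb R₁ W₁ := by
    rw [card_V e, card_hom e, ← pow_mul]; congr 1; ring
  have h2 : bb R₃ W₃ = c * bb R₁ W₁ := by
    rw [hY, card_eq R₃ W₃, ← pow_mul] at h1
    exact Nat.pow_right_injective hq3 h1
  -- it is enough that `c ≠ 0, 1`
  have hcc : 2 ≤ c := by
    by_contra hcon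
    have hk : 0 < bb R₃ W₃ := bb_pos R₃ W₃
    have hc1 : c = 1 := by
      rcases Nat.eq_zero_or_pos c with h0 | h0
      · rw [h2, h0, zero_mul] at hk; exact absurd hk (lt_irrefl _)
      · omega
    obtain ⟨φ₀, hφ₀, hall⟩ := finrank_eq_one_iff'.1 hc1
    have hall' : ∀ φ : W₁ →ₗ[R₁] W₃, ∃ d : Module.End R₃ W₃, ∀ w, φ w = d (φ₀ w) := by
      intro φ
      obtain ⟨d, hd⟩ := hall φ
      exact ⟨d, fun w => by rw [← hd]; rfl⟩
    let sφ : ∀ u : R₃, (∀ (r : R₁) (x : W₃), u • r • x = r • u • x) → (W₁ →ₗ[R₁] W₃) := fun u hu =>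
      { toFun := fun w => u • φ₀ w
        map_add' := fun a b => by rw [map_add, smul_add]
        map_smul' := fun r a => by rw [map_smul, hu]; rfl }
    obtain ⟨a, ha⟩ := hall' (sφ s hs)
    obtain ⟨b, hb⟩ := hall' (sφ t ht)
    have ha' : ∀ w, s • φ₀ w = a (φ₀ w) := ha
    have hb' : ∀ w, t • φ₀ w = b (φ₀ w) := hb
    have hφ : ∀ (φ : W₁ →ₗ[R₁] W₃) (w : W₁), s • t • φ w = t • s • φ w := by
      intro φ w
      obtain ⟨d, hd⟩ := hall' φ
      have e1 : ∀ (u : R₃) (d : Module.End R₃ W₃) (x : W₃), u • d x = d (u • x) := fun u d x => (map_smul d u x).symm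
      have e2 : s • t • d (φ₀ w) = d (b (a (φ₀ w))) := by
        rw [e1 t, hb', e1 s, e1 s, ha']
      have e3 : t • s • d (φ₀ w) = d (a (b (φ₀ w))) := by
        rw [e1 s, ha', e1 t, e1 t, hb']
      have e4 : b (a (φ₀ w)) = a (b (φ₀ w)) :=
        congrArg (fun g : Module.End R₃ W₃ => g (φ₀ w)) (end_comm R₃ W₃ b a)
      rw [hd, e2, e3, e4]
    obtain ⟨x, hx⟩ := hst
    apply hx
    have h3 : x = ∑ i, (e.symm.toLinearMap.comp (LinearMap.single R₁ (fun _ => W₁) i)) (e x i) := by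
      have : x = e.symm (∑ i, Pi.single i (e x i)) := by
        rw [Finset.univ_sum_single, e.symm_apply_apply]
      rw [map_sum] at this
      exact this
    rw [h3]
    simp only [Finset.smul_sum]
    exact Finset.sum_congr rfl fun i _ => hφ _ _
  rw [h2]
  exact Nat.mul_le_mul_right _ hcc

theorem two_mul_bb_le' {R₁ R₃ : Type*} {W₁ W₃ U : Type*} [Ring R₁] [Ring R₃] [AddCommGroup W₁] [Module R₁ W₁]
    [IsSimpleModule R₁ W₁] [Finite W₁] [AddCommGroup W₃] [Module R₃ W₃] [IsSimpleModule R₃ W₃] [Finite W₃]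
    [AddCommGroup U] [Module R₁ U] (f : R₁ →+* R₃) (i : U ≃+ W₃) (hf : ∀ (r : R₁) (x : U), i (r • x) = f r • i x)
    {k : ℕ} (e : U ≃ₗ[R₁] (Fin k → W₁)) (s t : R₃) (hs : ∀ (r : R₁) (x : W₃), s • f r • x = f r • s • x)
    (ht : ∀ (r : R₁) (x : W₃), t • f r • x = f r • t • x) (hst : ∃ x : W₃, s • t • x ≠ t • s • x) :
    2 * bb R₁ W₁ ≤ bb R₃ W₃ := by
  letI : Module R₁ W₃ := Module.compHom W₃ f
  have hsm : ∀ (r : R₁) (x : W₃), r • x = f r • x := fun _ _ => rfl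
  let e' : W₃ ≃ₗ[R₁] (Fin k → W₁) :=
    { toFun := fun x => e (i.symm x)
      map_add' := fun x y => by rw [map_add, map_add]
      map_smul' := fun r x => by
        have h1 : i.symm (r • x) = r • i.symm x := by
          apply i.injective
          rw [i.apply_symm_apply, hf, i.apply_symm_apply, hsm]
        rw [h1, map_smul]; rfl
      invFun := fun y => i (e.symm y)
      left_inv := fun x => by simp
      right_inv := fun y => by simp }
  exact two_mul_bb_le f hsm e' s t hs ht hst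

end Cfsg.Agent.H192.Af
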