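import Cfsg.Agent.H192.Af.Hom

/-!
# S5731: an automorphism with many fixed vectors, homogeneous modules of dimension two

* `comm_of_two` : if `b = 2`, an automorphism `g` of `V` normalising `R` with `|C_V(g)| ^ 2 > |V|` commutes with `R`;
* `exists_common` : `|A| |B| > |V|` gives a common non-zero vector.
-/

set_option autoImplicit false
set_option linter.style.haveILetI false
set_option linter.unusedSectionVars false

namespace Cfsg.Agent.H192.Af

open Module

universe u v w

theorem exists_common {V : Type w} [AddCommGroup V] [Finite V] (A B : AddSubgroup V)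
    (h : Nat.card V < Nat.card A * Nat.card B) : ∃ x : V, x ≠ 0 ∧ x ∈ A ∧ x ∈ B := by
  classical
  by_contra hcon
  push Not at hcon
  have hinj : Function.Injective (fun a : A × B => (a.1 : V) - (a.2 : V)) := by
    rintro ⟨a, b⟩ ⟨a', b'⟩ hab
    have h1 : (a : V) - (b : V) = (a' : V) - (b' : V) := hab
    have h2 : (a : V) - (a' : V) = (b : V) - (b' : V) := by
      rw [sub_eq_sub_iff_add_eq_add] at h1 ⊢
      rw [h1]; exact add_comm _ _
    have h3 : (a : V) - (a' : V) = 0 := by
      by_contra h0
      exact hcon _ h0 (A.sub_mem a.2 a'.2) (by rw [h2]; exact B.sub_mem b.2 b'.2)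
    have h4 : (a : V) = a' := sub_eq_zero.1 h3
    have h5 : (b : V) = b' := by
      rw [h3] at h2; exact sub_eq_zero.1 h2.symm
    exact Prod.ext (Subtype.ext h4) (Subtype.ext h5)
  have h1 := Nat.card_le_card_of_injective _ hinj
  rw [Nat.card_prod] at h1
  exact absurd h (not_lt.2 h1)

section

variable {R : Type u} {W : Type v} {V : Type w} [Ring R] [AddCommGroup W] [Module R W] [AddCommGroup V] [Module R V]

/-- an endomorphism with a prescribed value -/
theorem exists_end [IsSimpleModule R W] {x y : W} (hx : x ≠ 0) (h : ∀ t : R, t • x = 0 → t • y = 0) :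
    ∃ l : Module.End R W, l x = y := by
  choose s hs using fun z : W => exists_smul_eq (R := R) hx z
  have key : ∀ (t : R) (z : W), t • x = z → t • y = s z • y := by
    intro t z htz
    have : (t - s z) • x = 0 := by rw [sub_smul, htz, hs, sub_self]
    have h1 := h _ this
    rw [sub_smul] at h1
    exact sub_eq_zero.1 h1
  refine ⟨{ toFun := fun z => s z • y, map_add' := ?_, map_smul' := ?_ }, ?_⟩
  · intro a b
    rw [← key (s a + s b) (a + b) (by rw [add_smul, hs, hs]), add_smul]
  · intro r a
    rw [RingHom.id_apply, ← key (r * s a) (r • a) (by rw [mul_smul, hs]), mul_smul]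
  · show s x • y = y
    rw [← key 1 x (one_smul R x), one_smul]

variable [IsSimpleModule R W] [Finite W] {m : ℕ} (e : V ≃ₗ[R] (Fin m → W))

include e in
/-- a vector of prescribed annihilator fixed by an automorphism with many fixed vectors -/
theorem exists_fixed_hom (hb : bb R W = 2) (hm : 0 < m) (g : V ≃+ V)
    (hfix : Nat.card V < Nat.card {x : V // g x = x} ^ 2) {w : W} (hw : w ≠ 0) :
    ∃ φ : W →ₗ[R] V, φ ≠ 0 ∧ g (φ w) = φ w := by
  classical
  haveI : Finite V := Finite.of_equiv _ e.symm.toEquiv
  haveI : Finite (W →ₗ[R] V) := Finite.of_injective (fun f : W →ₗ[R] V => (f : W → V)) DFunLike.coe_injective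
  let ev : (W →ₗ[R] V) →+ V :=
    { toFun := fun φ => φ w
      map_zero' := rfl
      map_add' := fun _ _ => rfl }
  have hinj : Function.Injective ev := by
    rw [injective_iff_map_eq_zero]
    intro φ hφ
    by_contra h0
    exact hw ((LinearMap.injective_of_ne_zero h0) (by rw [map_zero]; exact hφ))
  let C : AddSubgroup V :=
    { carrier := {x | g x = x}
      zero_mem' := map_zero g
      add_mem' := fun {a b} ha hb' => by
        show g (a + b) = a + b
        rw [map_add]
        exact congrArg₂ (· + ·) ha hb'
      neg_mem' := fun {a} ha => by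
        show g (-a) = -a
        rw [map_neg]
        exact congrArg Neg.neg ha }
  have hC : Nat.card C = Nat.card {x : V // g x = x} := rfl
  have hY : Nat.card ev.range = qq R W ^ m := by
    rw [← card_hom e]
    exact (Nat.card_congr (AddMonoidHom.ofInjective hinj).toEquiv).symm
  have hV := card_V e
  rw [hb] at hV
  have hV' : Nat.card V = (qq R W ^ m) ^ 2 := by rw [hV, ← pow_mul]; congr 1; ring
  have h1 : qq R W ^ m < Nat.card C := by
    rw [← hC, hV'] at hfix
    exact lt_of_pow_lt_pow_left₀ 2 (Nat.zero_le _) hfix
  have hpos : 0 < qq R W ^ m := pow_pos (by have := two_le_qq R W; omega) m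
  obtain ⟨x, hx0, ⟨φ, hφ⟩, hxC⟩ := exists_common ev.range C (by
    rw [hY, hV', pow_two]
    exact Nat.mul_lt_mul_of_pos_left h1 hpos)
  refine ⟨φ, fun h => hx0 ?_, ?_⟩
  · rw [← hφ, h]; rfl
  · have : φ w = x := hφ
    rw [this]; exact hxC

include e in
/-- **dimension two**: an automorphism with many fixed vectors commutes with `R` -/
theorem comm_of_two (hb : bb R W = 2) (hm : 0 < m) (g : V ≃+ V) (α : R ≃+* R)
    (hα : ∀ (r : R) (x : V), g (r • x) = α r • g x)
    (hfix : Nat.card V < Nat.card {x : V // g x = x} ^ 2) (r : R) (x : V) : α r • x = r • x := by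
  classical
  -- annihilators are preserved
  have ha : ∀ w : W, w ≠ 0 → ∀ r : R, r • w = 0 ↔ α r • w = 0 := by
    intro w hw r
    obtain ⟨φ, hφ, hgφ⟩ := exists_fixed_hom e hb hm g hfix hw
    have hinj : Function.Injective φ := LinearMap.injective_of_ne_zero hφ
    have k : ∀ t : R, t • w = 0 ↔ t • φ w = 0 := by
      intro t
      rw [← map_smul]
      exact ⟨fun h => by rw [h, map_zero], fun h => hinj (by rw [h, map_zero])⟩
    rw [k, k]
    constructor
    · intro h
      rw [← hgφ, ← hα, h, map_zero]
    · intro h
      apply g.injective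
      rw [hα, hgφ, h, map_zero]
  -- `α` is the identity on `W`
  have hW : ∀ w : W, w ≠ 0 → ∀ r : R, α r • w = r • w := by
    intro w₀ hw₀
    choose s hs using fun z : W => exists_smul_eq (R := R) hw₀ z
    let g₀ : W → W := fun z => α (s z) • w₀
    have hg : ∀ r : R, g₀ (r • w₀) = α r • w₀ := by
      intro r
      have h1 : (s (r • w₀) - r) • w₀ = 0 := by rw [sub_smul, hs, sub_self]
      have h2 := (ha w₀ hw₀ _).1 h1
      rw [map_sub, sub_smul] at h2
      exact sub_eq_zero.1 h2
    have hg1 : g₀ w₀ = w₀ := by
      have := hg 1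
      rwa [one_smul, map_one, one_smul] at this
    have hgs : ∀ (r : R) (z : W), g₀ (r • z) = α r • g₀ z := by
      intro r z
      have h1 : r • z = (r * s z) • w₀ := by rw [mul_smul, hs]
      rw [h1, hg, map_mul, mul_smul]
    have hga : ∀ a b : W, g₀ (a + b) = g₀ a + g₀ b := by
      intro a b
      have h1 : a + b = (s a + s b) • w₀ := by rw [add_smul, hs, hs]
      rw [h1, hg, map_add, add_smul]
    have hl : ∀ z : W, z ≠ 0 → ∃ l : Module.End R W, l z = g₀ z := by
      intro z hz
      apply exists_end hz
      intro t ht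
      have h1 : α.symm t • z = 0 := (ha z hz _).2 (by rw [α.apply_symm_apply]; exact ht)
      have h2 : g₀ (α.symm t • z) = 0 := by
        rw [h1]
        have := hga 0 0
        rw [add_zero] at this
        exact left_eq_add.1 this
      rwa [hgs, α.apply_symm_apply] at h2
    choose! l hl using hl
    -- independence
    have hind : ∀ a b : W, a ≠ 0 → b ≠ 0 → (∀ c : Module.End R W, c a ≠ b) → l a = l b := by
      intro a b ha0 hb0 hab
      have hsum : a + b ≠ 0 := by
        intro h
        apply hab (-1)
        show -a = b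
        exact neg_eq_of_add_eq_zero_right h
      have h1 : l (a + b) (a + b) = l a a + l b b := by
        rw [hl _ hsum, hga, hl _ ha0, hl _ hb0]
      have h2 : (l (a + b) - l a) a + (l (a + b) - l b) b = 0 := by
        rw [LinearMap.sub_apply, LinearMap.sub_apply]
        rw [map_add] at h1
        rw [← sub_eq_zero] at h1
        rw [← h1]; abel
      have h3 : l (a + b) - l b = 0 := by
        by_contra h0
        have hbij : Function.Bijective (l (a + b) - l b) := LinearMap.bijective_of_ne_zero h0
        let E := LinearEquiv.ofBijective _ hbij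
        apply hab (-(E.symm.toLinearMap.comp (l (a + b) - l a)))
        show -(E.symm ((l (a + b) - l a) a)) = b
        rw [neg_eq_iff_eq_neg, LinearEquiv.symm_apply_eq]
        rw [map_neg]
        exact eq_neg_of_add_eq_zero_left h2
      have h4 : (l (a + b) - l a) a = 0 := by
        rw [h3, LinearMap.zero_apply, add_zero] at h2
        exact h2
      have h5 := sub_eq_zero.1 (end_apply_eq_zero R W ha0 h4)
      rw [← h5]; exact sub_eq_zero.1 h3
    -- a vector outside the line of `w₀`
    obtain ⟨u, hu⟩ : ∃ u : W, ∀ c : Module.End R W, c w₀ ≠ u := by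
      by_contra hcon
      push Not at hcon
      have hsurj : Function.Surjective (fun c : Module.End R W => c w₀) := hcon
      have h1 := Nat.card_le_card_of_surjective _ hsurj
      rw [card_eq R W, hb] at h1
      have h2 : Nat.card (Module.End R W) = qq R W := rfl
      rw [h2] at h1
      have h3 := two_le_qq R W
      nlinarith
    have hu0 : u ≠ 0 := fun h => hu 0 (by rw [h]; rfl)
    have hl1 : l w₀ = 1 := by
      have h1 : (l w₀ - 1) w₀ = 0 := by
        rw [LinearMap.sub_apply, hl _ hw₀, hg1]
        exact sub_self _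
      exact sub_eq_zero.1 (end_apply_eq_zero R W hw₀ h1)
    have hlu : l u = 1 := by rw [← hind w₀ u hw₀ hu0 hu, hl1]
    have hall : ∀ z : W, z ≠ 0 → l z = 1 := by
      intro z hz
      by_cases hzc : ∃ c : Module.End R W, c w₀ = z
      · obtain ⟨c, rfl⟩ := hzc
        rw [hind (c w₀) u hz hu0 (fun c' h => hu (c' * c) h), hlu]
      · push Not at hzc
        rw [← hind w₀ z hw₀ hz hzc, hl1]
    intro r
    rw [← hg r]
    by_cases hr : r • w₀ = 0
    · have := (ha w₀ hw₀ r).1 hr
      rw [hg, this, hr]
    · rw [← hl _ hr, hall _ hr]; rfl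
  -- on `V`
  apply e.injective
  funext i
  rw [map_smul, map_smul, Pi.smul_apply, Pi.smul_apply]
  by_cases h0 : e x i = 0
  · rw [h0, smul_zero, smul_zero]
  · exact hW _ h0 r

end

end Cfsg.Agent.H192.Af
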