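import Cfsg.Agent.H192.Af.Defs
import Cfsg.Agent.H192.Af.Two
import Cfsg.Agent.H192.Af.Dbl

/-!
# S5731: homogeneous normal subgroups, group level
-/

set_option autoImplicit false
set_option linter.style.haveILetI false
set_option linter.unusedSectionVars false

namespace Cfsg.Agent.H192.Af

open Module Cfsg.Agent.H717.FieldOf

universe u v

variable {V : Type u} [AddCommGroup V] {H : Type v} [Group H] [DistribMulAction H V]

theorem KA_smul_def {M : Subgroup H} (r : KA V M) (x : V) : r • x = (r : AddMonoid.End V) x := rfl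

/-- the element of the ring given by a group element -/
def el {M : Subgroup H} {h : H} (hh : h ∈ M) : KA V M := ⟨dl V h, dl_mem M hh⟩

theorem el_smul {M : Subgroup H} {h : H} (hh : h ∈ M) (x : V) : (el hh : KA V M) • x = h • x := rfl

theorem KA_mono {M K : Subgroup H} (h : M ≤ K) : KA V M ≤ KA V K := by
  unfold KA
  exact Subring.closure_mono (Set.image_mono h)

/-- an additive map commuting with `M` commutes with the ring -/
theorem map_KA {M : Subgroup H} (g : AddMonoid.End V) (hg : ∀ h ∈ M, ∀ x : V, g (h • x) = h • g x) (r : KA V M) (x : V) :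
    g (r • x) = r • g x := by
  have h : KA V M ≤ Subring.centralizer {g} := by
    unfold KA
    rw [Subring.closure_le]
    rintro _ ⟨m, hm, rfl⟩
    rw [SetLike.mem_coe, Subring.mem_centralizer_iff]
    rintro _ rfl
    ext y
    exact (hg m hm y)
  have h1 := h r.2
  rw [Subring.mem_centralizer_iff] at h1
  exact congrArg (fun f : AddMonoid.End V => f x) (h1 g rfl)

/-- submodules = invariant subgroups -/
theorem KA_mem {M : Subgroup H} {U : AddSubgroup V} (hU : ∀ h ∈ M, ∀ x ∈ U, h • x ∈ U) (r : KA V M) {x : V}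
    (hx : x ∈ U) : r • x ∈ U := by
  have h : KA V M ≤ { carrier := {f : AddMonoid.End V | ∀ x ∈ U, f x ∈ U}
                      mul_mem' := fun {a b} ha hb x hx => ha _ (hb x hx)
                      one_mem' := fun x hx => hx
                      add_mem' := fun {a b} ha hb x hx => U.add_mem (ha x hx) (hb x hx)
                      zero_mem' := fun x _ => U.zero_mem
                      neg_mem' := fun {a} ha x hx => U.neg_mem (ha x hx) : Subring (AddMonoid.End V) } := by
    unfold KA
    rw [Subring.closure_le]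
    rintro _ ⟨m, hm, rfl⟩ x hx
    exact hU m hm x hx
  exact h r.2 x hx

/-- invariant subgroups as submodules -/
def toSub {M : Subgroup H} (U : AddSubgroup V) (hU : ∀ h ∈ M, ∀ x ∈ U, h • x ∈ U) : Submodule (KA V M) V where
  carrier := U
  add_mem' := U.add_mem
  zero_mem' := U.zero_mem
  smul_mem' r _ hx := KA_mem hU r hx

section fin

variable [Finite V]

instance finKA (M : Subgroup H) : Module.Finite (KA V M) V := Module.Finite.of_finite

theorem Homog.exists_equiv [Nontrivial V] {M : Subgroup H} (h : Homog V M) (W : Submodule (KA V M) V)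
    [IsSimpleModule (KA V M) W] : ∃ m : ℕ, 0 < m ∧ Nonempty (V ≃ₗ[KA V M] (Fin m → W)) := by
  haveI := h.1
  have h1 : IsIsotypicOfType (KA V M) V W := h.2 W
  obtain ⟨m, ⟨e⟩⟩ := h1.linearEquiv_fun
  refine ⟨m, ?_, ⟨e⟩⟩
  rcases Nat.eq_zero_or_pos m with h0 | h0
  · subst h0
    exfalso
    obtain ⟨x, y, hxy⟩ := exists_pair_ne V
    exact hxy (e.injective (funext fun i => i.elim0))
  · exact h0

theorem Homog.exists_simple [Nontrivial V] {M : Subgroup H} (h : Homog V M) :
    ∃ W : Submodule (KA V M) V, IsSimpleModule (KA V M) W := by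
  haveI := h.1
  obtain ⟨m, _, S, hS, _⟩ := h.2.linearEquiv_fun
  exact ⟨S, hS⟩

/-- conjugation as an automorphism of the ring -/
def cjE (M : Subgroup H) [M.Normal] (d : H) : KA V M ≃+* KA V M where
  toFun r := ⟨cj V d r, cj_mem M d r.2⟩
  invFun r := ⟨cj V d⁻¹ r, cj_mem M d⁻¹ r.2⟩
  left_inv r := Subtype.ext (by
    show cj V d⁻¹ (cj V d r) = r
    rw [← cj_mul, inv_mul_cancel, cj_one])
  right_inv r := Subtype.ext (by
    show cj V d (cj V d⁻¹ r) = r
    rw [← cj_mul, mul_inv_cancel, cj_one])
  map_mul' a b := Subtype.ext (map_mul (cj V d) (a : AddMonoid.End V) b)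
  map_add' a b := Subtype.ext (map_add (cj V d) (a : AddMonoid.End V) b)

theorem cjE_smul (M : Subgroup H) [M.Normal] (d : H) (r : KA V M) (x : V) : d • r • x = cjE M d r • d • x := by
  show d • (r : AddMonoid.End V) x = (dl V d * (r : AddMonoid.End V) * dl V d⁻¹) (d • x)
  show d • (r : AddMonoid.End V) x = d • (r : AddMonoid.End V) (d⁻¹ • d • x)
  rw [inv_smul_smul]

variable [FaithfulSMul H V]

/-- a normal commutative subgroup is semiregular -/
theorem eq_zero_of_comm [Nontrivial V] {A : Subgroup H} (hA : Homog V A) (hab : ∀ a ∈ A, ∀ b ∈ A, a * b = b * a)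
    {a : H} (ha : a ∈ A) (ha1 : a ≠ 1) {x : V} (hx : a • x = x) : x = 0 := by
  by_contra hx0
  obtain ⟨W, hW⟩ := hA.exists_simple
  obtain ⟨m, hm, ⟨e⟩⟩ := hA.exists_equiv W
  obtain ⟨i, hi⟩ : ∃ i, e x i ≠ 0 := by
    by_contra hcon
    push Not at hcon
    exact hx0 (e.injective (by rw [map_zero]; exact funext hcon))
  set r : KA V A := el ha - 1 with hr
  have hrx : ∀ y : V, r • y = a • y - y := fun y => by
    rw [hr, sub_smul, one_smul, el_smul]
  have h1 : r • e x i = 0 := by
    have : e (r • x) i = r • e x i := by rw [map_smul]; rfl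
    rw [← this, hrx, hx, sub_self, map_zero]; rfl
  have hcomm : ∀ s : KA V A, s * r = r * s := fun s => Subtype.ext (KA_comm A hab s.2 r.2)
  have h2 : ∀ w : W, r • w = 0 := by
    intro w
    obtain ⟨s, hs⟩ := exists_smul_eq (R := KA V A) hi w
    rw [← hs, ← mul_smul, ← hcomm, mul_smul, h1, smul_zero]
  apply ha1
  apply FaithfulSMul.eq_of_smul_eq_smul (α := V)
  intro y
  rw [one_smul]
  have h3 : r • y = 0 := by
    apply e.injective
    rw [map_smul, map_zero]
    exact funext fun j => h2 _
  rw [hrx] at h3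
  exact sub_eq_zero.1 h3

omit [FaithfulSMul H V] [Finite V] in
variable (V) in
/-- the fixed vectors of `h` -/
def fx (h : H) : AddSubgroup V where
  carrier := {w | h • w = w}
  zero_mem' := smul_zero h
  add_mem' := fun {a b} ha hb => by
    show h • (a + b) = a + b
    rw [smul_add]; exact congrArg₂ (· + ·) ha hb
  neg_mem' := fun {a} ha => by
    show h • (-a) = -a
    rw [smul_neg]; exact congrArg Neg.neg ha

omit [FaithfulSMul H V] [Finite V] in
theorem card_fx (h : H) : Nat.card (fx V h) = fixc V h := rfl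

omit [FaithfulSMul H V] [Finite V] in
theorem mem_fx {h : H} {w : V} : w ∈ fx V h ↔ h • w = w := Iff.rfl

omit [FaithfulSMul H V] [Finite V] in
theorem fixc_conj (a h : H) : fixc V (a * h * a⁻¹) = fixc V h := by
  unfold fixc
  refine Nat.card_congr ?_
  refine ⟨fun w => ⟨a⁻¹ • w.1, ?_⟩, fun w => ⟨a • w.1, ?_⟩, ?_, ?_⟩
  · have := w.2
    rw [mul_smul, mul_smul, smul_eq_iff_eq_inv_smul] at this
    exact this
  · rw [mul_smul, mul_smul, inv_smul_smul, w.2]
  · intro w; simp
  · intro w; simp

/-- elements with many fixed vectors commute with the commutative normal subgroups -/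
theorem comm_of_big [Nontrivial V] {A : Subgroup H} [hAn : A.Normal] (hA : Homog V A)
    (hab : ∀ a ∈ A, ∀ b ∈ A, a * b = b * a) {x : H} (hx : Nat.card V < fixc V x ^ 2) {a : H} (ha : a ∈ A) :
    x * a = a * x := by
  by_contra hne
  have hc : x * a * x⁻¹ * a⁻¹ ∈ A := A.mul_mem (hAn.conj_mem a ha x) (A.inv_mem ha)
  have hc1 : x * a * x⁻¹ * a⁻¹ ≠ 1 := by
    intro h
    apply hne
    rw [mul_inv_eq_one, mul_inv_eq_iff_eq_mul] at h
    exact h
  obtain ⟨v, hv0, hv1, hv2⟩ := exists_common (fx V x) (fx V (a * x * a⁻¹)) (by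
    rw [card_fx, card_fx, fixc_conj, ← pow_two]; exact hx)
  rw [mem_fx] at hv1 hv2
  apply hv0
  refine eq_zero_of_comm hA hab hc hc1 (x := v) ?_
  have h1 : x * a * x⁻¹ * a⁻¹ = x * (a * x * a⁻¹)⁻¹ := by group
  have h2 : (a * x * a⁻¹)⁻¹ • v = v := by
    rw [inv_smul_eq_iff]; exact hv2.symm
  rw [h1, mul_smul, h2, hv1]

/-- dimension two: elements with many fixed vectors centralise `M` -/
theorem comm_of_dim_two [Nontrivial V] {M : Subgroup H} [M.Normal] (hM : Homog V M) (W : Submodule (KA V M) V)
    [IsSimpleModule (KA V M) W] (hb : bb (KA V M) W = 2) {x : H} (hx : Nat.card V < fixc V x ^ 2) {a : H}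
    (ha : a ∈ M) : x * a = a * x := by
  obtain ⟨m, hm, ⟨e⟩⟩ := hM.exists_equiv W
  have h1 := comm_of_two e hb hm (DistribMulAction.toAddEquiv V x) (cjE M x)
    (fun r y => cjE_smul M x r y) hx (el ha)
  have h2 : x * a * x⁻¹ = a := by
    apply FaithfulSMul.eq_of_smul_eq_smul (α := V)
    intro y
    have h3 := h1 y
    have h4 : (cjE M x (el ha) : KA V M) • y = (x * a * x⁻¹) • y := by
      rw [mul_smul, mul_smul]; rfl
    rw [h4] at h3
    exact h3
  rw [mul_inv_eq_iff_eq_mul] at h2
  exact h2

/-- if the ring acts commutatively on a simple submodule then `M` is commutative -/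
theorem comm_of_W [Nontrivial V] {M : Subgroup H} (hM : Homog V M) (W : Submodule (KA V M) V)
    [IsSimpleModule (KA V M) W] (h : ∀ (r s : KA V M) (w : W), r • s • w = s • r • w) {a b : H} (ha : a ∈ M)
    (hb : b ∈ M) : a * b = b * a := by
  obtain ⟨m, hm, ⟨e⟩⟩ := hM.exists_equiv W
  apply FaithfulSMul.eq_of_smul_eq_smul (α := V)
  intro y
  rw [mul_smul, mul_smul]
  apply e.injective
  funext i
  have h1 : ∀ (r : KA V M) (z : V), e (r • z) i = r • e z i := fun r z => by rw [map_smul]; rfl
  have h2 : a • b • y = (el ha : KA V M) • (el hb : KA V M) • y := rfl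
  have h3 : b • a • y = (el hb : KA V M) • (el ha : KA V M) • y := rfl
  rw [h2, h3, h1, h1, h1, h1, h]

/-- non-commutative normal subgroups generated by elements with many fixed vectors have dimension at least three -/
theorem dimGe_three [Nontrivial V] {M : Subgroup H} [M.Normal] (hM : Homog V M)
    (hna : ¬ ∀ a ∈ M, ∀ b ∈ M, a * b = b * a)
    (hle : M ≤ Subgroup.closure {h : H | Nat.card V < fixc V h ^ 2}) : DimGe V M 3 := by
  intro W hW
  by_contra hlt
  have hb0 := bb_pos (KA V M) W
  have hbb : bb (KA V M) W = finrank (Module.End (KA V M) W) W := rfl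
  rw [← hbb] at hlt
  have hcase : bb (KA V M) W = 1 ∨ bb (KA V M) W = 2 := by omega
  apply hna
  rcases hcase with h1 | h2
  · intro a ha b hb
    exact comm_of_W hM W (fun r s w => comm_of_one (KA V M) W h1 r s w) ha hb
  · have hcl : Subgroup.closure {h : H | Nat.card V < fixc V h ^ 2} ≤ Subgroup.centralizer (M : Set H) := by
      rw [Subgroup.closure_le]
      intro x hx
      rw [SetLike.mem_coe, Subgroup.mem_centralizer_iff]
      intro a ha
      exact (comm_of_dim_two hM W h2 hx ha).symm
    intro a ha b hb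
    have := hcl (hle ha)
    rw [Subgroup.mem_centralizer_iff] at this
    exact (this b hb).symm

/-- non-commutative subgroups have dimension at least two -/
theorem dimGe_two [Nontrivial V] {M : Subgroup H} (hM : Homog V M)
    (hna : ¬ ∀ a ∈ M, ∀ b ∈ M, a * b = b * a) : DimGe V M 2 := by
  intro W hW
  by_contra hlt
  have hb0 := bb_pos (KA V M) W
  have hbb : bb (KA V M) W = finrank (Module.End (KA V M) W) W := rfl
  rw [← hbb] at hlt
  have h1 : bb (KA V M) W = 1 := by omega
  exact hna fun a ha b hb => comm_of_W hM W (fun r s w => comm_of_one (KA V M) W h1 r s w) ha hb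

/-- the pure vectors -/
theorem exists_pure_set [Nontrivial V] {M : Subgroup H} [M.Normal] (hM : Homog V M) (W : Submodule (KA V M) V)
    [IsSimpleModule (KA V M) W] {m : ℕ} (e : V ≃ₗ[KA V M] (Fin m → W)) :
    ∃ S : Set V, S.Nonempty ∧ (0 : V) ∉ S ∧ (∀ (h : H), ∀ x ∈ S, h • x ∈ S) ∧
      S.ncard * (qq (KA V M) W - 1) ≤ (qq (KA V M) W ^ m - 1) * (qq (KA V M) W ^ bb (KA V M) W - 1) := by
  refine ⟨{x | PureE (KA V M) x}, ?_, fun h => h.1 rfl, ?_, card_pure e⟩
  · obtain ⟨w, hw⟩ : ∃ w : W, w ≠ 0 := by
      haveI : Nontrivial W := IsSimpleModule.nontrivial (KA V M) W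
      exact exists_ne 0
    have hsub : (Submodule.subtype W) ≠ 0 := by
      intro h
      apply hw
      have := congrArg (fun f : W →ₗ[KA V M] V => f w) h
      exact Subtype.ext this
    exact ⟨_, pure_of_hom hsub hw⟩
  · rintro h x ⟨hx0, hx⟩
    refine ⟨fun h0 => hx0 ?_, fun r hr => ?_⟩
    · have := congrArg (fun y => h⁻¹ • y) h0
      simpa using this
    · obtain ⟨r', rfl⟩ := (cjE M h).surjective r
      rw [← cjE_smul] at hr
      have hr' : r' • x ≠ 0 := fun h0 => hr (by rw [h0, smul_zero])
      obtain ⟨s, hs⟩ := hx r' hr'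
      refine ⟨cjE M h s, ?_⟩
      rw [← cjE_smul, ← cjE_smul, hs]

/-- a semiregular group of automorphisms commuting with `M` -/
theorem card_lt_of_semireg [Nontrivial V] {M A : Subgroup H} (W : Submodule (KA V M) V)
    [IsSimpleModule (KA V M) W] {m : ℕ} (e : V ≃ₗ[KA V M] (Fin m → W)) (hc : ∀ a ∈ A, ∀ x ∈ M, a * x = x * a)
    (hs : ∀ a ∈ A, a ≠ 1 → ∀ v : V, a • v = v → v = 0) : Nat.card A < qq (KA V M) W ^ m := by
  classical
  haveI : Finite (W →ₗ[KA V M] V) :=
    Finite.of_injective (fun f : W →ₗ[KA V M] V => (f : W → V)) DFunLike.coe_injective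
  obtain ⟨w, hw⟩ : ∃ w : W, w ≠ 0 := by
    haveI : Nontrivial W := IsSimpleModule.nontrivial (KA V M) W
    exact exists_ne 0
  have hwV : (w : V) ≠ 0 := fun h => hw (Subtype.ext h)
  let f : Option A → (W →ₗ[KA V M] V) := fun o => match o with
    | none => 0
    | some a =>
      { toFun := fun y => (a : H) • (y : V)
        map_add' := fun y z => smul_add _ _ _
        map_smul' := fun r y => by
          show (a : H) • (r • (y : V)) = r • ((a : H) • (y : V))
          exact map_KA (dl V (a : H)) (fun h hh x => by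
            show (a : H) • h • x = h • (a : H) • x
            rw [← mul_smul, ← mul_smul, hc a a.2 h hh]) r y }
  have hf : Function.Injective f := by
    intro o o' h
    have h1 : f o w = f o' w := by rw [h]
    rcases o with _ | a <;> rcases o' with _ | b
    · rfl
    · exfalso
      have h2 : (b : H) • (w : V) = 0 := h1.symm
      exact hwV ((smul_eq_zero_iff_eq (b : H)).1 h2)
    · exfalso
      have h2 : (a : H) • (w : V) = 0 := h1
      exact hwV ((smul_eq_zero_iff_eq (a : H)).1 h2)
    · have h2 : (a : H) • (w : V) = (b : H) • (w : V) := h1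
      by_contra hne
      have h3 : ((b : H)⁻¹ * a) ≠ 1 := by
        intro h4
        apply hne
        rw [inv_mul_eq_one] at h4
        rw [Subtype.ext h4.symm]
      apply hwV
      refine hs _ (A.mul_mem (A.inv_mem b.2) a.2) h3 _ ?_
      rw [mul_smul, h2, inv_smul_smul]
  haveI : Finite A := by
    haveI : Finite (Option A) := Finite.of_injective f hf
    exact Finite.of_injective (some : A → Option A) (Option.some_injective _)
  have h1 := Nat.card_le_card_of_injective f hf
  rw [card_hom e] at h1
  have h2 : Nat.card (Option A) = Nat.card A + 1 := by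
    haveI : Fintype A := Fintype.ofFinite A
    rw [Nat.card_eq_fintype_card, Nat.card_eq_fintype_card, Fintype.card_option]
  omega

/-- the centraliser is not larger than the ring of endomorphisms -/
theorem card_centralizer_le' [Finite H] {M : Subgroup H} (W : Submodule (KA V M) V)
    [IsSimpleModule (KA V M) W] {m : ℕ} (e : V ≃ₗ[KA V M] (Fin m → W)) :
    Nat.card (Subgroup.centralizer (M : Set H)) ≤ qq (KA V M) W ^ (m * m) := by
  haveI : Finite (Module.End (KA V M) V) := finite_end' _ _
  refine le_trans ?_ (card_end_le e)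
  let f : Subgroup.centralizer (M : Set H) → Module.End (KA V M) V := fun a =>
    { toFun := fun y => (a : H) • y
      map_add' := fun y z => smul_add _ _ _
      map_smul' := fun r y => by
        exact map_KA (dl V (a : H)) (fun h hh x => by
          show (a : H) • h • x = h • (a : H) • x
          rw [← mul_smul, ← mul_smul, (Subgroup.mem_centralizer_iff.1 a.2) h hh]) r y }
  refine Nat.card_le_card_of_injective f ?_
  intro a b h
  apply Subtype.ext
  apply FaithfulSMul.eq_of_smul_eq_smul (α := V)
  intro y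
  exact congrArg (fun g : Module.End (KA V M) V => g y) h

end fin

end Cfsg.Agent.H192.Af
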