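import Cfsg.Agent.H192.Af.Defs
import Cfsg.Agent.H192.Af.Grp

/-!
# S5731, affine core: counting centralisers, numerics, `p`-elements
-/

set_option autoImplicit false
set_option linter.style.haveILetI false
set_option linter.unusedSectionVars false

namespace Cfsg.Agent.H192.Af

open Cfsg.Agent.H717.FieldOf

universe u v

section grp

variable {H : Type v} [Group H] [Finite H]

theorem centralizer_le_sty (M : Subgroup H) [M.Normal] (y : H) : Subgroup.centralizer (M : Set H) ≤ sty M y := by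
  intro c hc
  show c * y * c⁻¹ * y⁻¹ ∈ Subgroup.centralizer (M : Set H)
  have h1 : y * c⁻¹ * y⁻¹ ∈ Subgroup.centralizer (M : Set H) :=
    (inferInstance : (Subgroup.centralizer (M : Set H)).Normal).conj_mem _ (inv_mem hc) y
  have h2 := mul_mem hc h1
  have h3 : c * (y * c⁻¹ * y⁻¹) = c * y * c⁻¹ * y⁻¹ := by group
  rwa [h3] at h2

/-- `|C_H(y₁ y₂)| ≤ κ₁ κ₂ |C_H(M₁) ∩ C_H(M₂)|` -/
theorem card_cent_mul_le (M₁ M₂ : Subgroup H) [hn₁ : M₁.Normal] [hn₂ : M₂.Normal]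
    (hc : ∀ a ∈ M₁, ∀ b ∈ M₂, a * b = b * a) {y₁ y₂ : H} (h1 : y₁ ∈ M₁) (h2 : y₂ ∈ M₂) :
    Nat.card (Subgroup.centralizer ({y₁ * y₂} : Set H)) ≤ kap M₁ y₁ * kap M₂ y₂ *
      Nat.card (Subgroup.centralizer (M₁ : Set H) ⊓ Subgroup.centralizer (M₂ : Set H) : Subgroup H) := by
  set C₁ := Subgroup.centralizer (M₁ : Set H) with hC₁
  set C₂ := Subgroup.centralizer (M₂ : Set H) with hC₂
  have hM12 : M₂ ≤ C₁ := fun b hb => Subgroup.mem_centralizer_iff.2 fun a ha => hc a ha b hb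
  have hM21 : M₁ ≤ C₂ := fun a ha => Subgroup.mem_centralizer_iff.2 fun b hb => (hc a ha b hb).symm
  have hle : Subgroup.centralizer ({y₁ * y₂} : Set H) ≤ sty M₁ y₁ ⊓ sty M₂ y₂ := by
    intro h hh
    rw [Subgroup.mem_centralizer_singleton_iff] at hh
    have e0 : h * (y₁ * y₂) * h⁻¹ = y₁ * y₂ := by rw [hh, mul_inv_cancel_right]
    have a1 : h * y₁ * h⁻¹ ∈ M₁ := hn₁.conj_mem _ h1 h
    have a2 : h * y₂ * h⁻¹ ∈ M₂ := hn₂.conj_mem _ h2 h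
    have e1 : (h * y₁ * h⁻¹) * (h * y₂ * h⁻¹) = y₁ * y₂ := by rw [← e0]; group
    have e2 : y₁⁻¹ * (h * y₁ * h⁻¹) = y₂ * (h * y₂ * h⁻¹)⁻¹ := by
      rw [eq_mul_inv_iff_mul_eq, mul_assoc, e1]; group
    constructor
    · show h * y₁ * h⁻¹ * y₁⁻¹ ∈ C₁
      have b1 : y₁⁻¹ * (h * y₁ * h⁻¹) ∈ C₁ := by
        rw [e2]; exact mul_mem (hM12 h2) (inv_mem (hM12 a2))
      have b2 : y₁ * (y₁⁻¹ * (h * y₁ * h⁻¹)) * y₁⁻¹ ∈ C₁ :=
        (inferInstance : C₁.Normal).conj_mem _ b1 y₁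
      have b3 : y₁ * (y₁⁻¹ * (h * y₁ * h⁻¹)) * y₁⁻¹ = h * y₁ * h⁻¹ * y₁⁻¹ := by group
      rwa [b3] at b2
    · show h * y₂ * h⁻¹ * y₂⁻¹ ∈ C₂
      have b1 : y₂ * (h * y₂ * h⁻¹)⁻¹ ∈ C₂ := by
        rw [← e2]; exact mul_mem (inv_mem (hM21 h1)) (hM21 a1)
      have b2 := inv_mem b1
      have b3 : (y₂ * (h * y₂ * h⁻¹)⁻¹)⁻¹ = h * y₂ * h⁻¹ * y₂⁻¹ := by group
      rwa [b3] at b2
  have hD : C₁ ⊓ C₂ ≤ sty M₁ y₁ ⊓ sty M₂ y₂ :=
    inf_le_inf (centralizer_le_sty M₁ y₁) (centralizer_le_sty M₂ y₂)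
  have k1 : Nat.card (sty M₁ y₁ ⊓ sty M₂ y₂ : Subgroup H)
      = (C₁ ⊓ C₂).relIndex (sty M₁ y₁ ⊓ sty M₂ y₂) * Nat.card (C₁ ⊓ C₂ : Subgroup H) := by
    have := Subgroup.relIndex_mul_relIndex ⊥ (C₁ ⊓ C₂) (sty M₁ y₁ ⊓ sty M₂ y₂) bot_le hD
    rw [Subgroup.relIndex_bot_left, Subgroup.relIndex_bot_left] at this
    rw [← this]; ring
  have k2 : (C₁ ⊓ C₂).relIndex (sty M₁ y₁ ⊓ sty M₂ y₂) ≤ kap M₁ y₁ * kap M₂ y₂ := by
    refine (Subgroup.relIndex_inf_le (H := C₁) (K := C₂) (L := sty M₁ y₁ ⊓ sty M₂ y₂)).trans (Nat.mul_le_mul ?_ ?_)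
    · exact Subgroup.relIndex_le_of_le_right inf_le_left Subgroup.index_ne_zero_of_finite
    · exact Subgroup.relIndex_le_of_le_right inf_le_right Subgroup.index_ne_zero_of_finite
  calc Nat.card (Subgroup.centralizer ({y₁ * y₂} : Set H))
      ≤ Nat.card (sty M₁ y₁ ⊓ sty M₂ y₂ : Subgroup H) := Subgroup.card_le_of_le hle
    _ = (C₁ ⊓ C₂).relIndex (sty M₁ y₁ ⊓ sty M₂ y₂) * Nat.card (C₁ ⊓ C₂ : Subgroup H) := k1
    _ ≤ _ := Nat.mul_le_mul_right _ k2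

/-- `|C_H(y)| ≤ κ |C_H(M)|` -/
theorem card_cent_le (M : Subgroup H) [hn : M.Normal] {y : H} (hy : y ∈ M) :
    Nat.card (Subgroup.centralizer ({y} : Set H)) ≤ kap M y * Nat.card (Subgroup.centralizer (M : Set H)) := by
  have h := card_cent_mul_le M ⊥ (fun a _ b hb => by
    rw [Subgroup.mem_bot.1 hb, mul_one, one_mul]) hy (Subgroup.mem_bot.2 rfl : (1 : H) ∈ (⊥ : Subgroup H))
  rw [mul_one] at h
  have h1 : Subgroup.centralizer ((⊥ : Subgroup H) : Set H) = ⊤ := by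
    rw [eq_top_iff]
    intro x _
    rw [Subgroup.mem_centralizer_iff]
    intro z hz
    have hz' : z = 1 := hz
    rw [hz', mul_one, one_mul]
  have h2 : kap (⊥ : Subgroup H) 1 = 1 := by
    unfold kap
    rw [h1]
    exact Subgroup.relIndex_top_left _
  rw [h2, mul_one, h1, inf_top_eq] at h
  exact h

end grp

/-- numerics -/
theorem exists_num_bound : ∃ N : ℕ, 2 ≤ N ∧ ∀ n x : ℕ, N ≤ n → x ^ 24 ≤ n ^ 10 * Nat.log 2 n ^ 24 → (x + 1) ^ 2 ≤ n := by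
  have h1 := (isLittleO_pow_const_const_pow_of_one_lt (R := ℝ) 24 (r := 4) (by norm_num)).bound
    (c := ((4 : ℝ) ^ 12)⁻¹) (by positivity)
  obtain ⟨X, hX⟩ := Filter.eventually_atTop.1 h1
  refine ⟨2 ^ (X + 1), ?_, fun n x hn hx => ?_⟩
  · calc 2 = 2 ^ 1 := by norm_num
      _ ≤ 2 ^ (X + 1) := Nat.pow_le_pow_right (by norm_num) (by omega)
  set l := Nat.log 2 n with hl
  have hn0 : n ≠ 0 := by
    have : 0 < 2 ^ (X + 1) := by positivity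
    omega
  have hlX : X ≤ l := by
    have : X + 1 ≤ Nat.log 2 n := Nat.le_log_of_pow_le (by norm_num) hn
    omega
  have h2l : 2 ^ l ≤ n := Nat.pow_log_le_self 2 hn0
  have h3 : (l : ℝ) ^ 24 ≤ ((4 : ℝ) ^ 12)⁻¹ * 4 ^ l := by
    have h4 := hX l hlX
    have e1 : ‖(l : ℝ) ^ 24‖ = (l : ℝ) ^ 24 := by rw [Real.norm_eq_abs, abs_of_nonneg (by positivity)]
    have e2 : ‖(4 : ℝ) ^ l‖ = (4 : ℝ) ^ l := by rw [Real.norm_eq_abs, abs_of_nonneg (by positivity)]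
    rw [e1, e2] at h4
    exact h4
  have h4 : 4 ^ 12 * l ^ 24 ≤ 4 ^ l := by
    have : (4 : ℝ) ^ 12 * (l : ℝ) ^ 24 ≤ 4 ^ l := by
      calc (4 : ℝ) ^ 12 * (l : ℝ) ^ 24 ≤ (4 : ℝ) ^ 12 * (((4 : ℝ) ^ 12)⁻¹ * 4 ^ l) := by gcongr
        _ = 4 ^ l := by rw [← mul_assoc, mul_inv_cancel₀ (by positivity), one_mul]
    exact_mod_cast this
  have h5 : 4 ^ 12 * l ^ 24 ≤ n ^ 2 := by
    refine h4.trans ?_
    calc 4 ^ l = (2 ^ l) ^ 2 := by rw [← pow_mul, mul_comm, pow_mul]; norm_num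
      _ ≤ n ^ 2 := Nat.pow_le_pow_left h2l 2
  rcases Nat.eq_zero_or_pos x with h0 | h0
  · subst h0
    have := Nat.pos_of_ne_zero hn0
    simp only [zero_add, one_pow]; omega
  · have h6 : (x + 1) ^ 2 ≤ 4 * x ^ 2 := by nlinarith
    refine h6.trans ?_
    have h7 : (4 * x ^ 2) ^ 12 ≤ n ^ 12 := by
      calc (4 * x ^ 2) ^ 12 = 4 ^ 12 * x ^ 24 := by rw [mul_pow, ← pow_mul]
        _ ≤ 4 ^ 12 * (n ^ 10 * l ^ 24) := Nat.mul_le_mul_left _ hx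
        _ = (4 ^ 12 * l ^ 24) * n ^ 10 := by ring
        _ ≤ n ^ 2 * n ^ 10 := Nat.mul_le_mul_right _ h5
        _ = n ^ 12 := by rw [← pow_add]
    exact le_of_pow_le_pow_left₀ (by norm_num) (Nat.zero_le _) h7

/-- a `p`-element fixes a non-zero vector -/
theorem exists_fixed_of_ppow {p : ℕ} (hp : p.Prime) {V : Type u} [AddCommGroup V] [Finite V] [Nontrivial V]
    (hpV : ∀ w : V, p • w = 0) {H : Type v} [Group H] [DistribMulAction H V] {x : H} {k : ℕ}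
    (hx : x ^ p ^ k = 1) : ∃ w : V, w ≠ 0 ∧ x • w = w := by
  classical
  haveI : Fact p.Prime := ⟨hp⟩
  have hG : IsPGroup p (Subgroup.zpowers x) := by
    intro g
    obtain ⟨j, hj⟩ := g.2
    refine ⟨k, Subtype.ext ?_⟩
    show (g : H) ^ p ^ k = 1
    have hj' : x ^ j = (g : H) := hj
    rw [← hj', ← zpow_natCast, ← zpow_mul, mul_comm, zpow_mul, zpow_natCast, hx, one_zpow]
  have hV : p ∣ Nat.card V := by
    obtain ⟨w, hw⟩ := exists_ne (0 : V)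
    have h1 : addOrderOf w = p := addOrderOf_eq_prime (hpV w) hw
    rw [← h1]; exact addOrderOf_dvd_natCard w
  obtain ⟨w, hw, hw0⟩ := hG.exists_fixed_point_of_prime_dvd_card_of_fixed_point V hV
    (a := (0 : V)) (fun g => smul_zero _)
  exact ⟨w, Ne.symm hw0, hw ⟨x, Subgroup.mem_zpowers x⟩⟩

end Cfsg.Agent.H192.Af
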