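import Cfsg.Agent.H192.Af.Cnt
import Cfsg.Agent.H192.Af.DblGrp
import Cfsg.Agent.H902.Af.Crit
import Cfsg.Agent.H813.Af.MinType
import Cfsg.Agent.H112.Af.Kap
import Cfsg.Agent.H383.Kap.Main

/-!
# S5731: the affine core
-/

set_option autoImplicit false
set_option linter.style.haveILetI false
set_option linter.unusedSectionVars false

namespace Cfsg.Agent.H192.Af

open Cfsg.Agent.H717.FieldOf Cfsg.Agent.H902.Af

universe u v

section big

variable {V : Type u} [AddCommGroup V] [Finite V] {H : Type v} [Group H] [Finite H] [DistribMulAction H V]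

variable (V H) in
/-- the subgroup generated by the elements with many fixed vectors -/
def bigN : Subgroup H := Subgroup.closure {h : H | Nat.card V < fixc V h ^ 2}

theorem bigN_normal : (bigN V H).Normal := by
  unfold bigN
  have : Subgroup.closure {h : H | Nat.card V < fixc V h ^ 2}
      = Subgroup.normalClosure {h : H | Nat.card V < fixc V h ^ 2} := by
    apply le_antisymm Subgroup.closure_le_normalClosure
    rw [Subgroup.normalClosure, Subgroup.closure_le]
    intro x hx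
    obtain ⟨s, hs, hsx⟩ := Group.mem_conjugatesOfSet_iff.1 hx
    obtain ⟨c, rfl⟩ := isConj_iff.1 hsx
    apply Subgroup.subset_closure
    show Nat.card V < fixc V (c * s * c⁻¹) ^ 2
    rw [fixc_conj]; exact hs
  rw [this]; infer_instance

/-- normal subgroups of Lie type in characteristic `p` do not occur -/
theorem tgt_of_LP {LP : ∀ (_ : ℕ) (T : Type v) [Group T], Prop}
    (hdvd : ∀ (p : ℕ) (T : Type v) [Group T] [Finite T] [IsSimpleGroup T], p.Prime → LP p T → p ∣ Nat.card T)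
    {p : ℕ} (hp : p.Prime) (hpV : ∀ w : V, p • w = 0) [Nontrivial V] [FaithfulSMul H V] {M : Subgroup H} {T : Type v}
    [Group T] [Finite T] [IsSimpleGroup T] {s : ℕ} (hs : 0 < s) (e : M ⧸ Subgroup.center M ≃* (Fin s → T))
    (hLP : LP p T) (h : ∀ h : H, Nat.card V < fixc V h ^ 2 → ∀ x ∈ M, h * x = x * h) : Tgt V H := by
  classical
  rcases tgt_or_stab (V := V) (H := H) with ht | hst
  · exact ht
  · exfalso
    -- the big elements centralise `M`
    have hcen : Subgroup.closure {h : H | Nat.card V < fixc V h ^ 2} ≤ Subgroup.centralizer (M : Set H) := by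
      rw [Subgroup.closure_le]
      intro x hx
      rw [SetLike.mem_coe, Subgroup.mem_centralizer_iff]
      intro a ha
      exact (h x hx a ha).symm
    -- an element of order `p` in the quotient
    haveI : Fact p.Prime := ⟨hp⟩
    have hpT := hdvd p T hp hLP
    obtain ⟨t, ht⟩ := exists_prime_orderOf_dvd_card' p hpT
    obtain ⟨q, hq⟩ := e.surjective (fun _ => t)
    obtain ⟨x, hx⟩ := QuotientGroup.mk_surjective q
    have ht1 : t ≠ 1 := by
      intro h1
      rw [h1, orderOf_one] at ht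
      exact hp.one_lt.ne ht
    -- the `p`-part of `x`
    set o := orderOf x with ho
    have hopos : 0 < o := orderOf_pos x
    obtain ⟨k, m', hm', hok⟩ := Nat.exists_eq_pow_mul_and_not_dvd hopos.ne' p hp.ne_one
    have hyp : (x ^ m') ^ p ^ k = 1 := by
      rw [← pow_mul, mul_comm, ← hok]; exact pow_orderOf_eq_one x
    obtain ⟨w, hw0, hw⟩ := exists_fixed_of_ppow hp hpV (x := ((x ^ m' : M) : H)) (k := k) (by
      rw [← Subgroup.coe_pow, hyp]; rfl)
    have hmem : ((x ^ m' : M) : H) ∈ MulAction.stabilizer H w := hw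
    have hcm := hcen (hst w hw0 hmem)
    have hcenter : (x ^ m' : M) ∈ Subgroup.center M := by
      rw [Subgroup.mem_center_iff]
      intro g
      apply Subtype.ext
      exact (Subgroup.mem_centralizer_iff.1 hcm) g g.2
    have h1 : ((x ^ m' : M) : M ⧸ Subgroup.center M) = 1 := (QuotientGroup.eq_one_iff _).2 hcenter
    have h2 : q ^ m' = 1 := by
      rw [← hx, ← QuotientGroup.mk_pow]; exact h1
    have h3 : (fun _ : Fin s => t) ^ m' = 1 := by
      rw [← hq, ← map_pow, h2, map_one]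
    have h4 : t ^ m' = 1 := congrFun h3 ⟨0, hs⟩
    have h5 : p ∣ m' := by
      rw [← ht]; exact orderOf_dvd_of_pow_eq_one h4
    exact hm' h5

end big

/-- **minimal non-abelian normal subgroups are harmless** -/
theorem good {LP : ∀ (_ : ℕ) (T : Type v) [Group T], Prop} (hBN : BNCase.{u, v} LP) (hSm : SmallCase.{u, v} LP)
    (hdvd : ∀ (p : ℕ) (T : Type v) [Group T] [Finite T] [IsSimpleGroup T], p.Prime → LP p T → p ∣ Nat.card T) :
    ∃ N : ℕ, ∀ (p : ℕ) (V : Type u) [AddCommGroup V] [Finite V] (H : Type v) [Group H] [Finite H]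
    [DistribMulAction H V] [FaithfulSMul H V], p.Prime → (∀ w : V, p • w = 0) →
    (∀ K : Subgroup H, K.Normal → Homog V K) → N ≤ Nat.card V → ∀ (M : Subgroup H) [M.Normal], MinNA M →
    Tgt V H ∨ ∃ y ∈ M, FixAll V M y ∧ kap M y ^ 24 ≤ Nat.card V := by
  classical
  obtain ⟨N1, hN1⟩ := hBN
  obtain ⟨N2, hN2⟩ := Cfsg.Agent.H383.Kap.kap_prod.{u, v} hSm 24 0
  obtain ⟨N3, hN3⟩ := Cfsg.Agent.H112.Af.kap_class_two.{u, v} 24
  refine ⟨max (max N1 N2) (max N3 2), fun p V _ _ H _ _ _ _ hp hpV hH hN M hMn hM => ?_⟩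
  haveI : Nontrivial V := by
    have h2 : 2 ≤ Nat.card V := le_trans (le_trans (le_max_right _ _) (le_max_right _ _)) hN
    rw [← Finite.one_lt_card_iff_nontrivial]; omega
  rcases Cfsg.Agent.H813.Af.minNA_type hM with ⟨r, hr, hcl⟩ | ⟨hperf, T, _, _, s, hTs, hTna, hs, ⟨e⟩⟩
  · right
    refine ⟨1, M.one_mem, ?_, ?_⟩
    · intro U hU _
      obtain ⟨w, hw0⟩ := AddSubgroup.ne_bot_iff_exists_ne_zero.1 hU
      exact ⟨w, w.2, fun h => hw0 (Subtype.ext h), one_smul _ _⟩
    · have h1 := hN3 p V H M r hp hpV hH (le_trans (le_trans (le_max_left _ _) (le_max_right _ _)) hN) hr hcl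
      refine le_trans (Nat.pow_le_pow_left ?_ 24) h1
      unfold kap
      rw [← Subgroup.relIndex_top_right]
      exact Subgroup.relIndex_le_of_le_right le_top Subgroup.index_ne_zero_of_finite
  · by_cases hLP : LP p T
    · left
      rcases hN1 p V H M T s hp hpV hH hperf hs ⟨e⟩ hTna hLP
        (le_trans (le_trans (le_max_left _ _) (le_max_left _ _)) hN) with h | h
      · exact h
      · exact tgt_of_LP hdvd hp hpV hs e hLP h
    · right
      exact hN2 p V H M T s hp hpV hH (le_trans (le_trans (le_max_right _ _) (le_max_left _ _)) hN) hperf hs ⟨e⟩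
        hTna (Or.inl hLP)

theorem not_comm_of {G : Type*} [Group G] {M : Subgroup G} (h : ¬ IsMulCommutative M) :
    ¬ ∀ a ∈ M, ∀ b ∈ M, a * b = b * a := fun hc =>
  h ⟨⟨fun a b => Subtype.ext (hc a a.2 b b.2)⟩⟩

theorem comm_of {G : Type*} [Group G] {M : Subgroup G} (h : IsMulCommutative M) :
    ∀ a ∈ M, ∀ b ∈ M, a * b = b * a := fun a ha b hb =>
  congrArg Subtype.val (h.is_comm.comm (⟨a, ha⟩ : M) ⟨b, hb⟩)

/-- minimal non-abelian normal subgroups below a given non-abelian normal subgroup -/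
theorem exists_minNA {G : Type*} [Group G] [Finite G] {K : Subgroup G} (hK : K.Normal) (hKna : ¬ IsMulCommutative K)
    (hcen : ∀ L : Subgroup G, L.Normal → L ≤ K → IsMulCommutative L → ∀ l ∈ L, ∀ k ∈ K, l * k = k * l) :
    ∃ M : Subgroup G, M ≤ K ∧ MinNA M := by
  classical
  obtain ⟨M, hM⟩ := (Set.toFinite {M : Subgroup G | M.Normal ∧ M ≤ K ∧ ¬ IsMulCommutative M}).exists_minimal
    ⟨K, hK, le_rfl, hKna⟩
  refine ⟨M, hM.prop.2.1, ⟨hM.prop.1, hM.prop.2.2, ?_⟩⟩
  intro L hL hLM l hl m hm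
  have hLc : IsMulCommutative L := by
    by_contra hna
    exact absurd (hM.le_of_le ⟨hL, hLM.le.trans hM.prop.2.1, hna⟩ hLM.le) (not_le_of_gt hLM)
  exact hcen L hL (hLM.le.trans hM.prop.2.1) hLc l hl m (hM.prop.2.1 hm)

/-- **THE AFFINE CORE.** -/
theorem core {LP : ∀ (_ : ℕ) (T : Type v) [Group T], Prop} (hBN : BNCase.{u, v} LP) (hSm : SmallCase.{u, v} LP)
    (hdvd : ∀ (p : ℕ) (T : Type v) [Group T] [Finite T] [IsSimpleGroup T], p.Prime → LP p T → p ∣ Nat.card T) :
    ∃ N : ℕ, ∀ (p : ℕ) (V : Type u) [AddCommGroup V] [Finite V] (H : Type v) [Group H] [Finite H]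
    [DistribMulAction H V] [FaithfulSMul H V], p.Prime → (∀ w : V, p • w = 0) →
    (∀ K : Subgroup H, K.Normal → Homog V K) → N ≤ Nat.card V → (∃ h : H, h ≠ 1 ∧ fixc V h ≠ 1) → Tgt V H := by
  classical
  obtain ⟨N1, hN1⟩ := good.{u, v} hBN hSm hdvd
  obtain ⟨N2, hN22, hN2⟩ := exists_num_bound
  refine ⟨max N1 N2, fun p V _ _ H _ _ _ _ hp hpV hH hN hne => ?_⟩
  set n := Nat.card V with hn
  have hn2 : 2 ≤ n := hN22.trans (le_trans (le_max_right _ _) hN)
  haveI : Nontrivial V := by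
    rw [← Finite.one_lt_card_iff_nontrivial]; omega
  by_contra hT
  -- the big elements
  obtain ⟨x₀, hx₀1, hx₀⟩ : ∃ x : H, x ≠ 1 ∧ n < fixc V x ^ 2 := by
    by_contra hcon
    push Not at hcon
    exact hT (tgt_of_fix hcon hne)
  have hN0 := bigN_normal (V := V) (H := H)
  have hx₀N : x₀ ∈ bigN V H := Subgroup.subset_closure hx₀
  -- commutative normal subgroups commute with `bigN`
  have hcomm : ∀ A : Subgroup H, A.Normal → IsMulCommutative A → ∀ a ∈ A, ∀ k ∈ bigN V H, a * k = k * a := by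
    intro A hA hab a ha k hk
    have h1 : bigN V H ≤ Subgroup.centralizer (A : Set H) := by
      unfold bigN
      rw [Subgroup.closure_le]
      intro x hx
      rw [SetLike.mem_coe, Subgroup.mem_centralizer_iff]
      intro b hb
      exact (comm_of_big (hH A hA) (comm_of hab) hx hb).symm
    exact (Subgroup.mem_centralizer_iff.1 (h1 hk)) a ha
  have hNna : ¬ IsMulCommutative (bigN V H) := by
    intro hab
    have h1 : fixc V x₀ = 1 := by
      rw [← card_fx, AddSubgroup.card_eq_one, AddSubgroup.eq_bot_iff_forall]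
      intro w hw
      exact eq_zero_of_comm (hH _ hN0) (comm_of hab) hx₀N hx₀1 hw
    rw [h1] at hx₀
    omega
  obtain ⟨M₁, hM₁N, hM₁⟩ := exists_minNA hN0 hNna (fun L hL _ hLc l hl k hk => hcomm L hL hLc l hl k hk)
  haveI hM₁n := hM₁.normal
  have hM₁na := not_comm_of hM₁.nonab
  obtain ⟨y₁, hy₁M, hy₁f, hy₁k⟩ := (hN1 p V H hp hpV hH (le_trans (le_max_left _ _) hN) M₁ hM₁).resolve_left hT
  have hdim₁ : DimGe V M₁ 3 := dimGe_three (hH M₁ hM₁n) hM₁na hM₁N
  obtain ⟨W₁, hW₁⟩ := (hH M₁ hM₁n).exists_simple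
  obtain ⟨m₁, hm₁, ⟨e₁⟩⟩ := (hH M₁ hM₁n).exists_equiv W₁
  have hb₁ : 3 ≤ bb (KA V M₁) W₁ := hdim₁ W₁ hW₁
  have hV₁ := card_V e₁
  rw [← hn] at hV₁
  set C₁ := Subgroup.centralizer (M₁ : Set H) with hC₁
  haveI hC₁n : C₁.Normal := inferInstance
  -- a maximal commutative normal subgroup inside `C₁`
  obtain ⟨A, hA⟩ := (Set.toFinite {A : Subgroup H | A.Normal ∧ A ≤ C₁ ∧ IsMulCommutative A}).exists_maximal
    ⟨⊥, inferInstance, bot_le, ⟨⟨fun a b => Subsingleton.elim _ _⟩⟩⟩
  haveI hAn := hA.prop.1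
  have hAC := hA.prop.2.1
  have hAc := hA.prop.2.2
  -- its order
  have hA3 : Nat.card A ^ 3 ≤ n := by
    have h1 : Nat.card A < qq (KA V M₁) W₁ ^ m₁ := by
      refine card_lt_of_semireg W₁ e₁ (fun a ha x hx => ?_) (fun a ha ha1 w hw => ?_)
      · exact ((Subgroup.mem_centralizer_iff.1 (hAC ha)) x hx).symm
      · exact eq_zero_of_comm (hH A hAn) (comm_of hAc) ha ha1 hw
    have hq := two_le_qq (KA V M₁) W₁
    calc Nat.card A ^ 3 ≤ (qq (KA V M₁) W₁ ^ m₁) ^ 3 := Nat.pow_le_pow_left h1.le 3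
      _ = qq (KA V M₁) W₁ ^ (m₁ * 3) := by rw [← pow_mul]
      _ ≤ qq (KA V M₁) W₁ ^ (bb (KA V M₁) W₁ * m₁) :=
          Nat.pow_le_pow_right (by omega) (by rw [mul_comm m₁ 3]; exact Nat.mul_le_mul_right _ hb₁)
      _ = n := hV₁.symm
  set K₁ := C₁ ⊓ Subgroup.centralizer (A : Set H) with hK₁
  haveI hK₁n : K₁.Normal := inferInstance
  have hAK : A ≤ K₁ := le_inf hAC (fun a ha => Subgroup.mem_centralizer_iff.2 fun b hb =>
    comm_of hAc b hb a ha)
  by_cases hKA : K₁ ≤ A
  · -- case I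
    apply hT
    have hKeq : K₁ = A := le_antisymm hKA hAK
    have h1 : Nat.card C₁ ≤ Nat.card A * Nat.log 2 n := by
      have h2 : Nat.card C₁ = K₁.relIndex C₁ * Nat.card K₁ := by
        have := Subgroup.relIndex_mul_relIndex ⊥ K₁ C₁ bot_le inf_le_left
        rw [Subgroup.relIndex_bot_left, Subgroup.relIndex_bot_left] at this
        rw [← this]; ring
      have h3 : K₁.relIndex C₁ ≤ (Subgroup.centralizer (A : Set H)).index := by
        rw [hK₁, Subgroup.inf_relIndex_left, ← Subgroup.relIndex_top_right]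
        exact Subgroup.relIndex_le_of_le_right le_top Subgroup.index_ne_zero_of_finite
      have h4 := Cfsg.Agent.H112.Af.index_centralizer_le hp hpV A (hH A hAn) hAc
      rw [h2, hKeq, mul_comm]
      exact Nat.mul_le_mul_left _ ((hKeq ▸ h3).trans h4)
    obtain ⟨w, -, hw0, hw⟩ := hy₁f ⊤ (by
      intro h
      obtain ⟨z, hz⟩ := exists_ne (0 : V)
      exact hz ((AddSubgroup.eq_bot_iff_forall _).1 h z trivial)) (fun _ _ _ _ => trivial)
    refine tgt_of_cent hw0 hw (hN2 n _ (le_trans (le_max_right _ _) hN) ?_)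
    have h5 := (card_cent_le M₁ hy₁M).trans (Nat.mul_le_mul_left _ h1)
    calc Nat.card (Subgroup.centralizer ({y₁} : Set H)) ^ 24
        ≤ (kap M₁ y₁ * (Nat.card A * Nat.log 2 n)) ^ 24 := Nat.pow_le_pow_left h5 24
      _ = kap M₁ y₁ ^ 24 * (Nat.card A ^ 3) ^ 8 * Nat.log 2 n ^ 24 := by ring
      _ ≤ n * n ^ 8 * Nat.log 2 n ^ 24 := by gcongr
      _ ≤ n ^ 10 * Nat.log 2 n ^ 24 := by
          apply Nat.mul_le_mul_right
          calc n * n ^ 8 = n ^ 9 := by ring
            _ ≤ n ^ 10 := Nat.pow_le_pow_right (by omega) (by norm_num)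
  · -- case II
    have hKna : ¬ IsMulCommutative K₁ := by
      intro h
      exact hKA (hA.le_of_ge ⟨hK₁n, inf_le_left, h⟩ hAK)
    obtain ⟨M₂, hM₂K, hM₂⟩ := exists_minNA hK₁n hKna (by
      intro L hL hLK hLc l hl k hk
      haveI := hL
      -- `L ⊔ A` is commutative
      have h1 : IsMulCommutative (L ⊔ A : Subgroup H) := by
        refine ⟨⟨fun a b => Subtype.ext ?_⟩⟩
        obtain ⟨l1, hl1, a1, ha1, e1⟩ := Subgroup.mem_sup_of_normal_left.1 a.2
        obtain ⟨l2, hl2, a2, ha2, e2⟩ := Subgroup.mem_sup_of_normal_left.1 b.2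
        have c1 := comm_of hLc l1 hl1 l2 hl2
        have c2 := comm_of hAc a1 ha1 a2 ha2
        have c3 : a1 * l2 = l2 * a1 := (Subgroup.mem_centralizer_iff.1 (hLK hl2).2) a1 ha1
        have c4 : a2 * l1 = l1 * a2 := (Subgroup.mem_centralizer_iff.1 (hLK hl1).2) a2 ha2
        show (a : H) * b = b * a
        rw [← e1, ← e2]
        calc l1 * a1 * (l2 * a2) = l1 * (a1 * l2) * a2 := by group
          _ = (l1 * l2) * (a1 * a2) := by rw [c3]; group
          _ = (l2 * l1) * (a2 * a1) := by rw [c1, c2]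
          _ = l2 * (l1 * a2) * a1 := by group
          _ = l2 * a2 * (l1 * a1) := by rw [← c4]; group
      have h2 : L ⊔ A ≤ A := hA.le_of_ge ⟨inferInstance, sup_le (hLK.trans inf_le_left) hAC, h1⟩ le_sup_right
      have h3 : l ∈ A := h2 (Subgroup.mem_sup_left hl)
      exact (Subgroup.mem_centralizer_iff.1 hk.2) l h3)
    haveI hM₂n := hM₂.normal
    have hM₂na := not_comm_of hM₂.nonab
    obtain ⟨y₂, hy₂M, hy₂f, hy₂k⟩ := (hN1 p V H hp hpV hH (le_trans (le_max_left _ _) hN) M₂ hM₂).resolve_left hT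
    have hc12 : ∀ a ∈ M₁, ∀ b ∈ M₂, a * b = b * a := fun a ha b hb =>
      (Subgroup.mem_centralizer_iff.1 (hM₂K hb).1) a ha
    -- the product
    set M₃ := M₁ ⊔ M₂ with hM₃
    haveI hM₃n : M₃.Normal := inferInstance
    obtain ⟨W₃, hW₃⟩ := (hH M₃ hM₃n).exists_simple
    obtain ⟨m₃, hm₃, ⟨e₃⟩⟩ := (hH M₃ hM₃n).exists_equiv W₃
    have hV₃ := card_V e₃
    rw [← hn] at hV₃
    have hq₃ := two_le_qq (KA V M₃) W₃
    have hb₃ : 6 ≤ bb (KA V M₃) W₃ := by
      push Not at hM₂na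
      obtain ⟨a, ha, b, hb, hab⟩ := hM₂na
      have : 2 * bb (KA V M₁) W₁ ≤ bb (KA V M₃) W₃ := two_mul_le (le_sup_left : M₁ ≤ M₃) (hH M₁ hM₁n) (hH M₃ hM₃n) W₁ W₃
        ((le_sup_right : M₂ ≤ M₃) ha) ((le_sup_right : M₂ ≤ M₃) hb) hab
        (fun x hx => (hc12 x hx a ha).symm) (fun x hx => (hc12 x hx b hb).symm)
      omega
    -- multiplicity at most two
    have hm₃2 : m₃ ≤ 2 := by
      by_contra hlt
      apply hT
      obtain ⟨S, hS, h0, hinv, hcard⟩ := exists_pure_set (hH M₃ hM₃n) W₃ e₃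
      refine tgt_of_inv hS h0 hinv ?_
      set q := qq (KA V M₃) W₃ with hq
      set b := bb (KA V M₃) W₃ with hb
      have h1 : 1 ≤ q ^ m₃ := Nat.one_le_pow _ _ (by omega)
      have h2 : 1 ≤ q ^ b := Nat.one_le_pow _ _ (by omega)
      have h3 : S.ncard ≤ (q ^ m₃ - 1) * (q ^ b - 1) := by
        refine le_trans ?_ hcard
        exact Nat.le_mul_of_pos_right _ (by omega)
      have h4 : S.ncard + 1 ≤ q ^ (m₃ + b) := by
        rw [pow_add]
        obtain ⟨u, hu⟩ := Nat.exists_eq_add_of_le h1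
        obtain ⟨t, ht⟩ := Nat.exists_eq_add_of_le h2
        rw [hu, ht, Nat.add_sub_cancel_left, Nat.add_sub_cancel_left] at h3
        rw [hu, ht]
        nlinarith
      calc (S.ncard + 1) ^ 2 ≤ (q ^ (m₃ + b)) ^ 2 := Nat.pow_le_pow_left h4 2
        _ = q ^ ((m₃ + b) * 2) := by rw [← pow_mul]
        _ ≤ q ^ (b * m₃) := Nat.pow_le_pow_right (by omega) (by nlinarith)
        _ = n := hV₃.symm
    -- the centraliser
    have hcen : Nat.card (Subgroup.centralizer (M₁ : Set H) ⊓ Subgroup.centralizer (M₂ : Set H) : Subgroup H) ^ 3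
        ≤ n := by
      have h1 : Subgroup.centralizer (M₁ : Set H) ⊓ Subgroup.centralizer (M₂ : Set H)
          ≤ Subgroup.centralizer (M₃ : Set H) := by
        intro c hc
        have h2 : M₁ ⊔ M₂ ≤ Subgroup.centralizer ({c} : Set H) := by
          refine sup_le (fun a ha => ?_) (fun a ha => ?_)
          · rw [Subgroup.mem_centralizer_singleton_iff]
            exact (Subgroup.mem_centralizer_iff.1 hc.1) a ha
          · rw [Subgroup.mem_centralizer_singleton_iff]
            exact (Subgroup.mem_centralizer_iff.1 hc.2) a ha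
        rw [Subgroup.mem_centralizer_iff]
        intro a ha
        exact Subgroup.mem_centralizer_singleton_iff.1 (h2 ha)
      have h2 := (Subgroup.card_le_of_le h1).trans (card_centralizer_le' W₃ e₃)
      calc _ ≤ (qq (KA V M₃) W₃ ^ (m₃ * m₃)) ^ 3 := Nat.pow_le_pow_left h2 3
        _ = qq (KA V M₃) W₃ ^ (m₃ * m₃ * 3) := by rw [← pow_mul]
        _ ≤ qq (KA V M₃) W₃ ^ (bb (KA V M₃) W₃ * m₃) := Nat.pow_le_pow_right (by omega) (by nlinarith)
        _ = n := hV₃.symm
    apply hT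
    -- the fixed vector
    obtain ⟨w, hw1, hw0, hw2⟩ := hy₂f (fx V y₁) (by
      intro h
      obtain ⟨w, -, hw0, hw⟩ := hy₁f ⊤ (by
        intro h
        obtain ⟨z, hz⟩ := exists_ne (0 : V)
        exact hz ((AddSubgroup.eq_bot_iff_forall _).1 h z trivial)) (fun _ _ _ _ => trivial)
      exact hw0 ((AddSubgroup.eq_bot_iff_forall _).1 h w hw)) (by
      intro b hb w hw
      rw [mem_fx] at hw ⊢
      rw [← mul_smul, hc12 y₁ hy₁M b hb, mul_smul, hw])
    refine tgt_of_cent (y := y₁ * y₂) hw0 (by rw [mul_smul, hw2]; exact hw1)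
      (hN2 n _ (le_trans (le_max_right _ _) hN) ?_)
    have h5 := card_cent_mul_le M₁ M₂ hc12 hy₁M hy₂M
    set c := Nat.card (Subgroup.centralizer (M₁ : Set H) ⊓ Subgroup.centralizer (M₂ : Set H) : Subgroup H) with hc
    have hl1 : 1 ≤ Nat.log 2 n := Nat.log_pos (by norm_num) hn2
    calc Nat.card (Subgroup.centralizer ({y₁ * y₂} : Set H)) ^ 24
        ≤ (kap M₁ y₁ * kap M₂ y₂ * c) ^ 24 := Nat.pow_le_pow_left h5 24
      _ = kap M₁ y₁ ^ 24 * kap M₂ y₂ ^ 24 * (c ^ 3) ^ 8 := by ring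
      _ ≤ n * n * n ^ 8 := by gcongr
      _ = n ^ 10 * 1 := by ring
      _ ≤ n ^ 10 * Nat.log 2 n ^ 24 := Nat.mul_le_mul_left _ (Nat.one_le_pow _ _ hl1)

end Cfsg.Agent.H192.Af
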