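import Mathlib

/-!
# S5731, piece (A): lifting a diagonal homomorphism through a double cover

`exists_lift` : `π : L → A` onto with central kernel of exponent 2, `i : P → A` (`P` perfect) and `σ ∈ A` such that
`i x` and `σ (i y) σ⁻¹` always commute; then `x ↦ i x * σ (i x) σ⁻¹` lifts to a homomorphism `P → L`.
-/

set_option autoImplicit false

namespace Cfsg.Agent.H192.Af

open scoped commutatorElement

theorem exists_lift {P L A : Type*} [Group P] [Group L] [Group A] (hP : commutator P = ⊤)
    (π : L →* A) (hπ : Function.Surjective π) (hZ : π.ker ≤ Subgroup.center L) (h2 : ∀ z ∈ π.ker, z * z = 1)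
    (i : P →* A) (σ : A) (hcomm : ∀ x y, Commute (i x) (σ * i y * σ⁻¹)) :
    ∃ φ : P →* L, ∀ x, π (φ x) = i x * (σ * i x * σ⁻¹) := by
  classical
  choose s hs using fun x : P => hπ (i x)
  obtain ⟨τ, hτ⟩ := hπ σ
  -- the lifts commute
  have hc : ∀ z ∈ π.ker, ∀ g : L, z * g = g * z := fun z hz g => (Subgroup.mem_center_iff.1 (hZ hz) g).symm
  have hcen : ∀ x y : P, ⁅s x, τ * s y * τ⁻¹⁆ ∈ π.ker := by
    intro x y
    rw [MonoidHom.mem_ker, map_commutatorElement]
    simp only [map_mul, map_inv, hs, hτ]
    exact commutatorElement_eq_one_iff_commute.2 (hcomm x y)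
  have hmul : ∀ x x' : P, (s x)⁻¹ * (s (x * x')) * (s x')⁻¹ ∈ π.ker := by
    intro x x'
    rw [MonoidHom.mem_ker]
    simp only [map_mul, map_inv, hs]
    group
  have hmul' : ∀ x x' : P, ∃ z ∈ π.ker, s (x * x') = z * (s x * s x') := by
    intro x x'
    refine ⟨s (x * x') * (s x * s x')⁻¹, ?_, by group⟩
    rw [MonoidHom.mem_ker]
    simp only [map_mul, map_inv, hs]
    group
  have hcom : ∀ x y : P, Commute (s x) (τ * s y * τ⁻¹) := by
    intro x y
    set t : L := τ * s y * τ⁻¹ with ht
    let f : P →* π.ker :=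
      { toFun := fun a => ⟨⁅s a, t⁆, hcen a y⟩
        map_one' := by
          obtain ⟨z, hz, h1⟩ := hmul' 1 1
          rw [mul_one] at h1
          have h2' : s 1 = z⁻¹ := by
            have : z * s 1 = 1 := by
              have h3 : s 1 * 1 = s 1 * (z * s 1) := by
                rw [mul_one]
                calc s 1 = z * (s 1 * s 1) := h1
                  _ = s 1 * (z * s 1) := by
                      rw [← mul_assoc, ← mul_assoc, hc z hz (s 1)]
              exact (mul_left_cancel h3).symm
            exact eq_inv_of_mul_eq_one_right this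
          apply Subtype.ext
          show ⁅s 1, t⁆ = 1
          rw [commutatorElement_eq_one_iff_commute, h2']
          exact hc z⁻¹ (inv_mem hz) t
        map_mul' := by
          intro a b
          apply Subtype.ext
          show ⁅s (a * b), t⁆ = ⁅s a, t⁆ * ⁅s b, t⁆
          obtain ⟨z, hz, h1⟩ := hmul' a b
          have hzc := hc z hz
          have hz' : ∀ g : L, z * g * z⁻¹ = g := fun g => by rw [hzc g, mul_inv_cancel_right]
          have h3 : ⁅s (a * b), t⁆ = ⁅s a * s b, t⁆ := by
            rw [h1, commutatorElement_def, commutatorElement_def]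
            calc z * (s a * s b) * t * (z * (s a * s b))⁻¹ * t⁻¹
                = z * (s a * s b * t * (s a * s b)⁻¹) * z⁻¹ * t⁻¹ := by group
              _ = s a * s b * t * (s a * s b)⁻¹ * t⁻¹ := by rw [hz']
          rw [h3]
          have h4 : ⁅s a * s b, t⁆ = s a * ⁅s b, t⁆ * (s a)⁻¹ * ⁅s a, t⁆ := by
            simp only [commutatorElement_def]; group
          have h5 : s a * ⁅s b, t⁆ * (s a)⁻¹ = ⁅s b, t⁆ := by
            rw [← hc _ (hcen b y) (s a), mul_inv_cancel_right]
          rw [h4, h5]
          exact hc _ (hcen b y) _ }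
    have hf : (commutator P) ≤ f.ker := by
      rw [commutator_def, Subgroup.commutator_le]
      intro a _ b _
      rw [MonoidHom.mem_ker, map_commutatorElement, commutatorElement_eq_one_iff_commute]
      apply Subtype.ext
      exact hc _ (f a).2 _
    rw [hP] at hf
    have h6 : f x = 1 := hf (Subgroup.mem_top x)
    have h7 : ⁅s x, t⁆ = 1 := congrArg Subtype.val h6
    exact commutatorElement_eq_one_iff_commute.1 h7
  refine ⟨MonoidHom.mk' (fun x => s x * (τ * s x * τ⁻¹)) ?_, ?_⟩
  · intro a b
    obtain ⟨z, hz, h1⟩ := hmul' a b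
    have hzc := hc z hz
    have hzz := h2 z hz
    have h3 : s (a * b) * (τ * s (a * b) * τ⁻¹) = (z * z) * ((s a * s b) * (τ * (s a * s b) * τ⁻¹)) := by
      rw [h1]
      have e1 : τ * (z * (s a * s b)) * τ⁻¹ = z * (τ * (s a * s b) * τ⁻¹) := by
        rw [← mul_assoc, ← hzc τ]; group
      rw [e1, mul_assoc z, ← mul_assoc (s a * s b) z, ← hzc (s a * s b)]
      group
    rw [h3, hzz, one_mul]
    have h4 := (hcom b a).eq
    calc s a * s b * (τ * (s a * s b) * τ⁻¹)
        = s a * (s b * (τ * s a * τ⁻¹)) * (τ * s b * τ⁻¹) := by group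
      _ = s a * ((τ * s a * τ⁻¹) * s b) * (τ * s b * τ⁻¹) := by rw [h4]
      _ = s a * (τ * s a * τ⁻¹) * (s b * (τ * s b * τ⁻¹)) := by group
  · intro x
    simp only [MonoidHom.mk'_apply, map_mul, map_inv, hs, hτ]

end Cfsg.Agent.H192.Af
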