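import Cfsg.Agent.H192.Af.Fix
import Cfsg.Agent.H192.Af.Lift
import Cfsg.Agent.H192.Af.Cen

/-!
# S5731, piece (A): the element

`r` an odd prime, `Ω = ZMod r × Fin t`; `trn a : (x, i) ↦ (x + a, i)`, `dil u : (x, i) ↦ (u x, i)`.
-/

set_option autoImplicit false

namespace Cfsg.Agent.H192.Af

open Equiv Equiv.Perm

section elt

variable (r t : ℕ)

/-- translations of the blocks -/
def trn : Multiplicative (ZMod r) →* Perm (ZMod r × Fin t) where
  toFun a := Equiv.prodCongr (Equiv.addLeft (Multiplicative.toAdd a)) (Equiv.refl _)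
  map_one' := by
    ext x <;> simp
  map_mul' a b := by
    ext x <;> simp [add_assoc]

/-- dilations of the blocks -/
def dil : (ZMod r)ˣ →* Perm (ZMod r × Fin t) where
  toFun u := Equiv.prodCongr (Units.mulLeft u) (Equiv.refl _)
  map_one' := by
    ext x <;> simp
  map_mul' a b := by
    ext x <;> simp [mul_assoc]

@[simp] theorem trn_apply (a : Multiplicative (ZMod r)) (x : ZMod r × Fin t) :
    trn r t a x = (Multiplicative.toAdd a + x.1, x.2) := rfl

@[simp] theorem dil_apply (u : (ZMod r)ˣ) (x : ZMod r × Fin t) : dil r t u x = (u * x.1, x.2) := rfl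

variable {r t}

theorem dil_trn (u : (ZMod r)ˣ) (a : Multiplicative (ZMod r)) :
    dil r t u * trn r t a * (dil r t u)⁻¹ = trn r t (Multiplicative.ofAdd ((u : ZMod r) * Multiplicative.toAdd a)) := by
  rw [mul_inv_eq_iff_eq_mul]
  ext x <;> simp [mul_add]

variable [Fact r.Prime]

theorem sign_trn (hr : r ≠ 2) [NeZero r] (a : Multiplicative (ZMod r)) : sign (trn r t a) = 1 := by
  have h1 : a ^ r = 1 := by
    apply Multiplicative.toAdd.injective
    simp
  have h2 : sign (trn r t a) ^ r = 1 := by
    rw [← map_pow, ← map_pow, h1, map_one, map_one]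
  have hodd : Odd r := (Fact.out : r.Prime).odd_of_ne_two hr
  rcases Int.units_eq_one_or (sign (trn r t a)) with h | h
  · exact h
  · rw [h, hodd.neg_one_pow] at h2
    exact absurd h2 (by decide)

theorem sign_dil_sq [NeZero r] (u : (ZMod r)ˣ) : sign (dil r t (u ^ 2)) = 1 := by
  rw [map_pow, map_pow]
  exact Int.units_sq _

/-! ### in the alternating group of `Ω` -/

variable (r t) in
/-- the alternating group of `ZMod r × Fin t` -/
abbrev Alt [NeZero r] := alternatingGroup (ZMod r × Fin t)

variable (hr : r ≠ 2) [NeZero r]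

/-- translations, in the alternating group -/
def trA : Multiplicative (ZMod r) →* Alt r t :=
  (trn r t).codRestrict (alternatingGroup (ZMod r × Fin t)) fun a => by
    rw [mem_alternatingGroup]; exact sign_trn hr a

/-- squares of dilations, in the alternating group -/
def diA (u : (ZMod r)ˣ) : Alt r t := ⟨dil r t (u ^ 2), by rw [mem_alternatingGroup]; exact sign_dil_sq u⟩

theorem coe_trA (a : Multiplicative (ZMod r)) : (trA (t := t) hr a : Perm (ZMod r × Fin t)) = trn r t a := rfl

theorem coe_diA (u : (ZMod r)ˣ) : (diA (t := t) u : Perm (ZMod r × Fin t)) = dil r t (u ^ 2) := rfl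

theorem coe_diA_pow (u : (ZMod r)ˣ) (j : ℕ) :
    ((diA (t := t) u ^ j : Alt r t) : Perm (ZMod r × Fin t)) = dil r t ((u ^ 2) ^ j) := by
  rw [Subgroup.coe_pow, coe_diA, map_pow _ (u ^ 2)]

theorem diA_trA (u : (ZMod r)ˣ) (j : ℕ) (a : Multiplicative (ZMod r)) :
    diA u ^ j * trA (t := t) hr a * (diA u ^ j)⁻¹
      = trA hr (Multiplicative.ofAdd ((((u ^ 2) ^ j : (ZMod r)ˣ) : ZMod r) * Multiplicative.toAdd a)) := by
  apply Subtype.ext
  rw [Subgroup.coe_mul, Subgroup.coe_mul, Subgroup.coe_inv, coe_diA_pow, coe_trA, coe_trA, dil_trn]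

theorem trA_injective (ht : 0 < t) : Function.Injective (trA (r := r) (t := t) hr) := by
  intro a b hab
  have h1 : trn r t a (0, ⟨0, ht⟩) = trn r t b (0, ⟨0, ht⟩) := by
    rw [← coe_trA hr, ← coe_trA hr, hab]
  simpa using congrArg Prod.fst h1

/-- the dilation fixes a vector of every module on which the translations act non-trivially -/
theorem exists_fixed_alt (ht : 0 < t) {V : Type*} [AddCommGroup V] [DistribMulAction (Alt r t) V] {p : ℕ}
    (hp : ∀ v : V, p • v = 0) (hrp : r.Coprime p) (u : (ZMod r)ˣ) {a : Multiplicative (ZMod r)} {v : V}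
    (hv : trA (t := t) hr a • v ≠ v) : ∃ w : V, w ≠ 0 ∧ diA (t := t) u • w = w := by
  classical
  have hcard : Nat.card (trA (r := r) (t := t) hr).range = r := by
    rw [← Nat.card_congr (MonoidHom.ofInjective (trA_injective hr ht)).toEquiv]
    simp
  haveI : Finite (trA (r := r) (t := t) hr).range := Nat.finite_of_card_ne_zero (by
    rw [hcard]; exact NeZero.ne r)
  refine exists_fixed hp (trA (r := r) (t := t) hr).range (by rwa [hcard]) (diA u)
    (d := orderOf (u ^ 2)) (orderOf_pos _) ?_ ?_ ?_ ⟨a, rfl⟩ hv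
  · apply Subtype.ext
    rw [coe_diA_pow, pow_orderOf_eq_one, map_one]; rfl
  · rintro _ ⟨b, rfl⟩
    have := diA_trA (t := t) hr u 1 b
    rw [pow_one] at this
    rw [this]; exact ⟨_, rfl⟩
  · rintro j hj0 hjd _ ⟨b, rfl⟩ he
    rw [diA_trA] at he
    have h1 := trA_injective hr ht he
    have h2 : (((u ^ 2) ^ j : (ZMod r)ˣ) : ZMod r) * Multiplicative.toAdd b = Multiplicative.toAdd b := by
      have := congrArg Multiplicative.toAdd h1
      simpa using this
    have h3 : ((((u ^ 2) ^ j : (ZMod r)ˣ) : ZMod r) - 1) * Multiplicative.toAdd b = 0 := by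
      rw [sub_mul, one_mul, h2, sub_self]
    rcases mul_eq_zero.1 h3 with h | h
    · exfalso
      have h4 : (u ^ 2) ^ j = 1 := by
        apply Units.ext
        rw [Units.val_one]; exact sub_eq_zero.1 h
      exact absurd (orderOf_dvd_of_pow_eq_one h4) (Nat.not_dvd_of_pos_of_lt hj0 hjd)
    · have h5 : b = 1 := by
        apply Multiplicative.toAdd.injective
        rw [h]; rfl
      rw [h5, map_one]

end elt

end Cfsg.Agent.H192.Af
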