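import Cfsg.Agent.H192.Af.Irr
import Cfsg.Agent.H84.AF.Small
import Cfsg.Agent.H759.Af.Dvd
import Cfsg.Agent.H679.Af.GL
import Cfsg.Agent.H127.Af.Asym
import Cfsg.Agent.H692.Dr.Top

/-!
# S5731: the affine case from the Lie type case `BNCase`
-/

set_option autoImplicit false

namespace Cfsg.Agent.H192.Af

universe u v

/-- the affine hypothesis of `H692.Dr.top` from the names of the simple groups and `BNCase` -/
theorem affHyp
    (hname : ∀ (T : Type v) [Group T] [Finite T] [IsSimpleGroup T], ¬ IsMulCommutative T →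
      ∃ g, Cfsg.Agent.H436.IsNamed g T)
    (hBN : BNCase.{u, v} Cfsg.Agent.H84.AF.LP.{v}) : Cfsg.Agent.H692.Dr.AffHyp.{u, v} := by
  refine affine.{u, v} hBN (Cfsg.Agent.H84.AF.smallCase.{u, v} hname ?_ ?_) ?_
  · intro p hp T _ _ _ hT L _ _ hL e X _ _ _ hX hne
    exact Cfsg.Agent.H679.Af.exists_GL hp hT hL e hX hne
  · exact Cfsg.Agent.H127.Af.lb_big.{v}
  · intro p T _ _ _ hp h
    exact Cfsg.Agent.H759.Af.dvd_of_LP hp h

end Cfsg.Agent.H192.Af
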