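import Cfsg.Agent.H192.Af.Fin
import Cfsg.Agent.H570.Bn.Main
import Cfsg.Agent.H570.Bn.Lp

/-!
# S5731: the affine case, complete
-/

set_option autoImplicit false

namespace Cfsg.Agent.H192.Af

universe u v

theorem bnCase : BNCase.{u, v} Cfsg.Agent.H84.AF.LP.{v} := by
  refine Cfsg.Agent.H570.Bn.Main.bnCase_of ?_ ?_
  · intro V _ _ H _ _ _ w hw h
    exact Cfsg.Agent.H902.Af.tgt_of_rnk' hw h
  · rintro p T _ _ _ hp _ ⟨g, hc, hch, hr⟩
    exact Cfsg.Agent.H570.Bn.Lp.hasSplit_of_real hp hc hch hr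

/-- the affine hypothesis of `H692.Dr.top` -/
theorem affHyp'
    (hname : ∀ (T : Type v) [Group T] [Finite T] [IsSimpleGroup T], ¬ IsMulCommutative T →
      ∃ g, Cfsg.Agent.H436.IsNamed g T) : Cfsg.Agent.H692.Dr.AffHyp.{u, v} :=
  affHyp hname bnCase

end Cfsg.Agent.H192.Af
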