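import Mathlib

/-!
# S5731, piece (A): a Frobenius complement fixes a vector

`exists_fixed` : `E` a finite group acting on an abelian group `V` of exponent `p`, `|E|` prime to `p`, `y` of order
dividing `d` normalising `E`, all `y ^ j`, `0 < j < d`, without fixed points on `E \ 1`; if `E` acts non-trivially then
`y` has a non-zero fixed vector. (No characters, no extension of scalars.)
-/

set_option autoImplicit false

namespace Cfsg.Agent.H192.Af

theorem exists_fixed {L V : Type*} [Group L] [AddCommGroup V] [DistribMulAction L V] {p : ℕ}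
    (hp : ∀ v : V, p • v = 0) (E : Subgroup L) [Finite E] (hE : (Nat.card E).Coprime p)
    (y : L) {d : ℕ} (hd : 0 < d) (hyd : y ^ d = 1) (hyE : ∀ e ∈ E, y * e * y⁻¹ ∈ E)
    (hfix : ∀ j, 0 < j → j < d → ∀ e ∈ E, y ^ j * e * (y ^ j)⁻¹ = e → e = 1)
    {v : V} {c : L} (hc : c ∈ E) (hcv : c • v ≠ v) : ∃ u : V, u ≠ 0 ∧ y • u = u := by
  classical
  haveI : Fintype E := Fintype.ofFinite E
  by_contra hcon
  push Not at hcon
  have hno : ∀ u : V, y • u = u → u = 0 := fun u hu => by
    by_contra h0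
    exact hcon u h0 hu
  set w : V := c • v - v with hw
  have hw0 : w ≠ 0 := sub_ne_zero.2 hcv
  -- the norm of `E` kills `w`
  have hN : ∑ e : E, (e : L) • w = 0 := by
    have h1 : ∑ e : E, (e : L) • (c • v) = ∑ e : E, (e : L) • v := by
      refine Fintype.sum_equiv (Equiv.mulRight (⟨c, hc⟩ : E)) _ _ fun e => ?_
      simp [mul_smul]
    simp only [hw, smul_sub, Finset.sum_sub_distrib, h1, sub_self]
  -- powers of `y` normalise `E`
  have hyE' : ∀ j : ℕ, ∀ e ∈ E, y ^ j * e * (y ^ j)⁻¹ ∈ E := by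
    intro j
    induction j with
    | zero => intro e he; simpa using he
    | succ j ih =>
      intro e he
      have := hyE _ (ih e he)
      have h2 : y ^ (j + 1) * e * (y ^ (j + 1))⁻¹ = y * (y ^ j * e * (y ^ j)⁻¹) * y⁻¹ := by
        rw [pow_succ']; group
      rw [h2]; exact this
  -- the sums over the orbit of `y`
  have hS : ∀ u : V, ∑ j ∈ Finset.range d, (y ^ j) • u = 0 := by
    intro u
    apply hno
    rw [Finset.smul_sum]
    have h1 : ∀ j ∈ Finset.range d, y • (y ^ j) • u = (y ^ (j + 1)) • u := by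
      intro j _
      rw [← mul_smul, ← pow_succ']
    rw [Finset.sum_congr rfl h1]
    have h2 := Finset.sum_range_succ' (fun j => (y ^ j) • u) d
    have h3 := Finset.sum_range_succ (fun j => (y ^ j) • u) d
    rw [h2] at h3
    simp only [pow_zero, one_smul, hyd] at h3
    exact add_right_cancel h3
  have hT : ∑ e : E, ((e : L)⁻¹) • ∑ j ∈ Finset.range d, (y ^ j) • ((e : L) • w) = 0 := by
    refine Finset.sum_eq_zero fun e _ => ?_
    rw [hS, smul_zero]
  -- the inner bijections
  have hbij : ∀ j, 0 < j → j < d → ∑ e : E, ((e : L)⁻¹) • (y ^ j) • ((e : L) • w) = 0 := by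
    intro j hj0 hjd
    let f : E → E := fun e => ⟨(e : L)⁻¹ * (y ^ j * e * (y ^ j)⁻¹), E.mul_mem (E.inv_mem e.2) (hyE' j _ e.2)⟩
    have hinj : Function.Injective f := by
      intro a b hab
      have h1 : (a : L)⁻¹ * (y ^ j * a * (y ^ j)⁻¹) = (b : L)⁻¹ * (y ^ j * b * (y ^ j)⁻¹) :=
        congrArg Subtype.val hab
      have h2 : y ^ j * ((a : L) * (b : L)⁻¹) * (y ^ j)⁻¹ = (a : L) * (b : L)⁻¹ := by
        have h3 : y ^ j * (a : L) * (y ^ j)⁻¹ = (a : L) * ((b : L)⁻¹ * (y ^ j * b * (y ^ j)⁻¹)) := by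
          rw [← h1]; group
        calc y ^ j * ((a : L) * (b : L)⁻¹) * (y ^ j)⁻¹
            = (y ^ j * (a : L) * (y ^ j)⁻¹) * (y ^ j * (b : L) * (y ^ j)⁻¹)⁻¹ := by group
          _ = (a : L) * (b : L)⁻¹ := by rw [h3]; group
      have h4 := hfix j hj0 hjd _ (E.mul_mem a.2 (E.inv_mem b.2)) h2
      exact Subtype.ext (mul_inv_eq_one.1 h4)
    have hb : Function.Bijective f := Finite.injective_iff_bijective.1 hinj
    have h5 : ∑ e : E, ((e : L)⁻¹) • (y ^ j) • ((e : L) • w) = ∑ e : E, (e : L) • ((y ^ j) • w) := by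
      refine Fintype.sum_equiv (Equiv.ofBijective f hb) _ _ fun e => ?_
      simp only [Equiv.ofBijective_apply, f, ← mul_smul]
      congr 1
      group
    rw [h5]
    let g : E → E := fun e => ⟨y ^ j * e * (y ^ j)⁻¹, hyE' j _ e.2⟩
    have hgi : Function.Injective g := by
      intro a b hab
      have h1 : y ^ j * (a : L) * (y ^ j)⁻¹ = y ^ j * b * (y ^ j)⁻¹ := congrArg Subtype.val hab
      have h2 : (a : L) = b := by
        have := mul_right_cancel h1
        exact mul_left_cancel this
      exact Subtype.ext h2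
    have hgb : Function.Bijective g := Finite.injective_iff_bijective.1 hgi
    have h6 : ∑ e : E, (e : L) • ((y ^ j) • w) = ∑ e : E, (y ^ j) • ((e : L) • w) := by
      symm
      refine Fintype.sum_equiv (Equiv.ofBijective g hgb) _ _ fun e => ?_
      simp only [Equiv.ofBijective_apply, g, ← mul_smul]
      congr 1
      group
    rw [h6, ← Finset.smul_sum, hN, smul_zero]
  -- conclusion
  have hcard : (Nat.card E) • w = 0 := by
    have h1 : ∑ e : E, ((e : L)⁻¹) • ∑ j ∈ Finset.range d, (y ^ j) • ((e : L) • w)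
        = ∑ j ∈ Finset.range d, ∑ e : E, ((e : L)⁻¹) • (y ^ j) • ((e : L) • w) := by
      simp only [Finset.smul_sum]
      rw [Finset.sum_comm]
    rw [h1, Finset.sum_eq_single 0] at hT
    · simpa [← mul_smul, Nat.card_eq_fintype_card] using hT
    · intro j hj hj0
      exact hbij j (Nat.pos_of_ne_zero hj0) (Finset.mem_range.1 hj)
    · intro h
      exact absurd (Finset.mem_range.2 hd) h
  have h1 : ((1 : ℕ) : ℤ) • w = 0 := by
    have h2 : ((Nat.gcd (Nat.card E) p : ℕ) : ℤ) • w = 0 := by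
      rw [Nat.gcd_eq_gcd_ab, add_smul, mul_comm, mul_smul, mul_comm, mul_smul]
      have e1 : ((Nat.card E : ℕ) : ℤ) • w = 0 := by
        rw [natCast_zsmul]; exact hcard
      have e2 : ((p : ℕ) : ℤ) • w = 0 := by
        rw [natCast_zsmul]; exact hp w
      rw [e1, e2, smul_zero, smul_zero, add_zero]
    rwa [hE] at h2
  exact hw0 (by simpa using h1)

end Cfsg.Agent.H192.Af
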