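import Mathlib

/-!
# S5731: homogeneous modules over a ring, the numbers `q`, `b`, `m`

`W` a finite simple `R`-module, `q = |End W|`, `b = dim W` over `End W`, `V ≅ W ^ m`.

* `card_eq` : `|W| = q ^ b`; `card_V` : `|V| = q ^ (b * m)`; `card_hom` : `|Hom(W, V)| = q ^ m`;
* `card_end_le` : `|End_R V| ≤ q ^ (m * m)`;
* `Pure`, `card_pure` : at most `(q ^ m - 1) (q ^ b - 1) / (q - 1)` pure vectors;
* `comm_of_one` : if `b = 1` then `R` acts commutatively.
-/

set_option autoImplicit false
set_option linter.style.haveILetI false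
set_option linter.unusedSectionVars false

namespace Cfsg.Agent.H192.Af

open Module

universe u v w

section W

variable (R : Type u) (W : Type v) [Ring R] [AddCommGroup W] [Module R W]

/-- the number of endomorphisms -/
noncomputable def qq : ℕ := Nat.card (Module.End R W)

/-- the dimension over the endomorphisms (for simple `W`) -/
noncomputable def bb : ℕ := Module.finrank (Module.End R W) W

instance finite_end' [Finite W] : Finite (Module.End R W) :=
  Finite.of_injective (fun f : Module.End R W => (f : W → W)) DFunLike.coe_injective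

variable [IsSimpleModule R W] [Finite W]

theorem end_comm (f g : Module.End R W) : f * g = g * f := by
  classical
  letI : Field (Module.End R W) := littleWedderburn (Module.End R W)
  have := mul_comm f g
  exact this

theorem end_injective {f : Module.End R W} (hf : f ≠ 0) : Function.Injective f :=
  LinearMap.injective_of_ne_zero hf

theorem end_apply_eq_zero {f : Module.End R W} {x : W} (hx : x ≠ 0) (h : f x = 0) : f = 0 := by
  by_contra hf
  exact hx (end_injective R W hf (by rw [h, map_zero]))

theorem two_le_qq : 2 ≤ qq R W := by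
  classical
  have : Nontrivial W := IsSimpleModule.nontrivial R W
  have h : 1 < Nat.card (Module.End R W) := Finite.one_lt_card
  exact h

theorem card_eq : Nat.card W = qq R W ^ bb R W := by
  classical
  haveI : Fintype W := Fintype.ofFinite W
  haveI : Fintype (Module.End R W) := Fintype.ofFinite _
  have h := Module.card_eq_pow_finrank (K := Module.End R W) (V := W)
  rw [qq, bb, Nat.card_eq_fintype_card, Nat.card_eq_fintype_card]
  exact h

theorem bb_pos : 0 < bb R W := by
  have : Nontrivial W := IsSimpleModule.nontrivial R W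
  have h : 1 < Nat.card W := Finite.one_lt_card
  rw [card_eq R W] at h
  rcases Nat.eq_zero_or_pos (bb R W) with h0 | h0
  · rw [h0, pow_zero] at h; exact absurd h (lt_irrefl _)
  · exact h0

/-- density: every endomorphism is the action of an element of `R` -/
theorem exists_ring (d : Module.End R W) : ∃ r : R, ∀ x : W, r • x = d x := by
  classical
  haveI : Fintype W := Fintype.ofFinite W
  let f : Module.End (Module.End R W) W :=
    { toFun := fun x => d x
      map_add' := fun x y => map_add d x y
      map_smul' := fun c x => by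
        show d (c x) = c (d x)
        have := congrArg (fun g : Module.End R W => g x) (end_comm R W d c)
        exact this }
  obtain ⟨r, hr⟩ := jacobson_density f Finset.univ
  exact ⟨r, fun x => (hr x (Finset.mem_univ x)).symm⟩

/-- over a one-dimensional module the ring acts commutatively -/
theorem comm_of_one (h : bb R W = 1) (r s : R) (x : W) : r • s • x = s • r • x := by
  classical
  obtain ⟨x₀, hx₀⟩ : ∃ x₀ : W, x₀ ≠ 0 := by
    have : Nontrivial W := IsSimpleModule.nontrivial R W
    exact exists_ne 0
  have h1 : ∀ y : W, ∃ c : Module.End R W, c x₀ = y := by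
    intro y
    obtain ⟨c, hc⟩ := (finrank_eq_one_iff_of_nonzero' x₀ hx₀).1 h y
    exact ⟨c, hc⟩
  obtain ⟨a, ha⟩ := h1 (r • x₀)
  obtain ⟨b, hb⟩ := h1 (s • x₀)
  obtain ⟨c, rfl⟩ := h1 x
  have e1 : ∀ (t : R) (y : W) (f : Module.End R W), t • f y = f (t • y) := fun t y f => (map_smul f t y).symm
  have e2 : r • s • c x₀ = c (b (a x₀)) := by
    rw [e1 s, ← hb, e1 r, e1 r, ← ha]
  have e3 : s • r • c x₀ = c (a (b x₀)) := by
    rw [e1 r, ← ha, e1 s, e1 s, ← hb]
  have e4 : b (a x₀) = a (b x₀) := congrArg (fun g : Module.End R W => g x₀) (end_comm R W b a)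
  rw [e2, e3, e4]

end W

section V

variable {R : Type u} {W : Type v} {V : Type w} [Ring R] [AddCommGroup W] [Module R W] [AddCommGroup V] [Module R V]
  [IsSimpleModule R W] [Finite W] {m : ℕ} (e : V ≃ₗ[R] (Fin m → W))

include e

theorem card_V : Nat.card V = qq R W ^ (bb R W * m) := by
  rw [Nat.card_congr e.toEquiv, Nat.card_fun, card_eq R W, Nat.card_eq_fintype_card, Fintype.card_fin, pow_mul]

theorem card_hom : Nat.card (W →ₗ[R] V) = qq R W ^ m := by
  have h1 : (W →ₗ[R] V) ≃ (Fin m → (W →ₗ[R] W)) :=
    { toFun := fun f i => (LinearMap.proj i).comp (e.toLinearMap.comp f)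
      invFun := fun g => e.symm.toLinearMap.comp (LinearMap.pi g)
      left_inv := fun f => by
        ext x
        apply e.injective
        funext i
        simp
      right_inv := fun g => by
        funext i
        ext x
        simp }
  rw [Nat.card_congr h1, Nat.card_fun, Nat.card_fin]
  rfl

theorem card_end_le : Nat.card (Module.End R V) ≤ qq R W ^ (m * m) := by
  classical
  let f : Module.End R V → (Fin m → (W →ₗ[R] V)) := fun g i =>
    g.comp (e.symm.toLinearMap.comp (LinearMap.single R (fun _ => W) i))
  have hf : Function.Injective f := by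
    intro g g' h
    ext x
    have h1 : x = e.symm (∑ i, Pi.single i (e x i)) := by
      rw [Finset.univ_sum_single, e.symm_apply_apply]
    rw [h1, map_sum, map_sum, map_sum]
    refine Finset.sum_congr rfl fun i _ => ?_
    exact congrArg (fun k : W →ₗ[R] V => k (e x i)) (congrFun h i)
  haveI : Finite V := Finite.of_equiv _ e.symm.toEquiv
  haveI : Finite (W →ₗ[R] V) := Finite.of_injective (fun f : W →ₗ[R] V => (f : W → V)) DFunLike.coe_injective
  have h1 := Nat.card_le_card_of_injective f hf
  rw [Nat.card_fun, card_hom e, Nat.card_fin, ← pow_mul] at h1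
  exact h1

end V

/-! ### pure vectors -/

/-- `x` generates a simple submodule -/
def PureE (R : Type u) {V : Type w} [Ring R] [AddCommGroup V] [Module R V] (x : V) : Prop :=
  x ≠ 0 ∧ ∀ r : R, r • x ≠ 0 → ∃ s : R, s • r • x = x

section pure

variable {R : Type u} {W : Type v} {V : Type w} [Ring R] [AddCommGroup W] [Module R W] [AddCommGroup V] [Module R V]

theorem exists_smul_eq [IsSimpleModule R W] {w : W} (hw : w ≠ 0) (x : W) : ∃ r : R, r • w = x := by
  have h1 : Submodule.span R {w} = ⊤ :=
    (eq_bot_or_eq_top (Submodule.span R {w})).resolve_left (fun h => hw (Submodule.span_singleton_eq_bot.1 h))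
  have h2 : x ∈ Submodule.span R {w} := by rw [h1]; trivial
  exact Submodule.mem_span_singleton.1 h2

theorem pure_of_hom [IsSimpleModule R W] {φ : W →ₗ[R] V} {w : W} (hφ : φ ≠ 0) (hw : w ≠ 0) : PureE R (φ w) := by
  have hinj : Function.Injective φ := LinearMap.injective_of_ne_zero hφ
  refine ⟨fun h => hw (hinj (by rw [h, map_zero])), fun r hr => ?_⟩
  have hrw : r • w ≠ 0 := fun h => hr (by rw [← map_smul, h, map_zero])
  obtain ⟨s, hs⟩ := exists_smul_eq (R := R) hrw w
  exact ⟨s, by rw [← map_smul, ← map_smul, hs]⟩

theorem isSimple_of_pure {x : V} (hx : PureE R x) : IsSimpleModule R (Submodule.span R {x}) := by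
  haveI : Nontrivial (Submodule.span R {x}) := by
    refine ⟨⟨⟨x, Submodule.mem_span_singleton_self x⟩, 0, fun h => hx.1 (congrArg Subtype.val h)⟩⟩
  rw [isSimpleModule_iff_toSpanSingleton_surjective]
  refine ⟨inferInstance, ?_⟩
  rintro ⟨y, hy⟩ hy0 ⟨z, hz⟩
  obtain ⟨r, rfl⟩ := Submodule.mem_span_singleton.1 hy
  obtain ⟨t, rfl⟩ := Submodule.mem_span_singleton.1 hz
  obtain ⟨s, hs⟩ := hx.2 r (fun h => hy0 (Subtype.ext h))
  refine ⟨t * s, Subtype.ext ?_⟩
  show (t * s) • (r • x) = t • x
  rw [mul_smul, hs]

variable [IsSimpleModule R W] [Finite W] {m : ℕ} (e : V ≃ₗ[R] (Fin m → W))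

include e in
theorem exists_of_pure {x : V} (hx : PureE R x) : ∃ (φ : W →ₗ[R] V) (w : W), φ ≠ 0 ∧ w ≠ 0 ∧ φ w = x := by
  haveI := isSimple_of_pure hx
  -- a non-zero coordinate
  obtain ⟨i, hi⟩ : ∃ i, e x i ≠ 0 := by
    by_contra hcon
    push Not at hcon
    apply hx.1
    apply e.injective
    rw [map_zero]
    exact funext hcon
  let ψ : Submodule.span R {x} →ₗ[R] W := (LinearMap.proj i).comp (e.toLinearMap.comp (Submodule.subtype _))
  have hψ : ψ ≠ 0 := by
    intro h
    apply hi
    exact congrArg (fun f : Submodule.span R {x} →ₗ[R] W => f ⟨x, Submodule.mem_span_singleton_self x⟩) h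
  have hb : Function.Bijective ψ := LinearMap.bijective_of_ne_zero hψ
  let ψ' := LinearEquiv.ofBijective ψ hb
  refine ⟨(Submodule.subtype _).comp ψ'.symm.toLinearMap, ψ' ⟨x, Submodule.mem_span_singleton_self x⟩, ?_, ?_, ?_⟩
  · intro h
    apply hx.1
    have := congrArg (fun f : W →ₗ[R] V => f (ψ' ⟨x, Submodule.mem_span_singleton_self x⟩)) h
    simpa using this
  · exact hi
  · simp

include e in
theorem card_pure : {x : V | PureE R x}.ncard * (qq R W - 1) ≤ (qq R W ^ m - 1) * (qq R W ^ bb R W - 1) := by
  classical
  haveI : Finite V := Finite.of_equiv _ e.symm.toEquiv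
  haveI : Finite (W →ₗ[R] V) := Finite.of_injective (fun f : W →ₗ[R] V => (f : W → V)) DFunLike.coe_injective
  choose φ w hφ hw hx using fun x : {x : V // PureE R x} => exists_of_pure e x.2
  have hinv : ∀ d : {d : Module.End R W // d ≠ 0}, ∃ d' : Module.End R W, ∀ y : W, d' (d.1 y) = y := by
    intro d
    have hb : Function.Bijective d.1 := LinearMap.bijective_of_ne_zero d.2
    exact ⟨(LinearEquiv.ofBijective d.1 hb).symm.toLinearMap, fun y =>
      (LinearEquiv.ofBijective d.1 hb).symm_apply_apply y⟩
  choose inv hinv using hinv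
  let f : {x : V // PureE R x} × {d : Module.End R W // d ≠ 0} →
      {g : W →ₗ[R] V // g ≠ 0} × {y : W // y ≠ 0} := fun a =>
    (⟨(φ a.1).comp (inv a.2), fun h => by
        apply a.1.2.1
        have := congrArg (fun g : W →ₗ[R] V => g (a.2.1 (w a.1))) h
        simp only [LinearMap.comp_apply, hinv, hx, LinearMap.zero_apply] at this
        exact this⟩,
      ⟨a.2.1 (w a.1), fun h => hw a.1 (by
        have := hinv a.2 (w a.1)
        rw [h, map_zero] at this
        exact this.symm)⟩)
  have hf : Function.Injective f := by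
    rintro ⟨x, d⟩ ⟨x', d'⟩ h
    have h1 : (φ x).comp (inv d) = (φ x').comp (inv d') := congrArg (fun z => (z.1 : W →ₗ[R] V)) h
    have h2 : d.1 (w x) = d'.1 (w x') := congrArg (fun z => (z.2 : W)) h
    have h3 : (φ x).comp (inv d) (d.1 (w x)) = x := by
      rw [LinearMap.comp_apply, hinv, hx]
    have h4 : (φ x').comp (inv d') (d'.1 (w x')) = x' := by
      rw [LinearMap.comp_apply, hinv, hx]
    have hxx : x = x' := by
      apply Subtype.ext
      rw [← h3, ← h4, h1, h2]
    subst hxx
    have h5 : (d.1 - d'.1) (w x) = 0 := by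
      rw [LinearMap.sub_apply, h2, sub_self]
    have h6 := end_apply_eq_zero R W (hw x) h5
    have hdd : d = d' := Subtype.ext (sub_eq_zero.1 h6)
    rw [hdd]
  have h1 := Nat.card_le_card_of_injective f hf
  rw [Nat.card_prod, Nat.card_prod] at h1
  have c1 : Nat.card {x : V // PureE R x} = {x : V | PureE R x}.ncard := rfl
  have c2 : Nat.card {d : Module.End R W // d ≠ 0} = qq R W - 1 := by
    rw [qq, ← Nat.card_congr (Equiv.refl _ : Module.End R W ≃ _)]
    have := Set.ncard_compl ({0} : Set (Module.End R W))
    rw [Set.ncard_singleton] at this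
    exact this
  have c3 : Nat.card {g : W →ₗ[R] V // g ≠ 0} = qq R W ^ m - 1 := by
    rw [← card_hom e]
    have := Set.ncard_compl ({0} : Set (W →ₗ[R] V))
    rw [Set.ncard_singleton] at this
    exact this
  have c4 : Nat.card {y : W // y ≠ 0} = qq R W ^ bb R W - 1 := by
    rw [← card_eq R W]
    have := Set.ncard_compl ({0} : Set W)
    rw [Set.ncard_singleton] at this
    exact this
  rw [c1, c2, c3, c4] at h1
  exact h1

end pure

end Cfsg.Agent.H192.Af
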