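import Cfsg.Agent.H192.Af.Elt

/-!
# S5731, piece (A): the element in a double cover of an alternating group
-/

set_option autoImplicit false
set_option linter.unusedSectionVars false

namespace Cfsg.Agent.H192.Af

open Equiv Equiv.Perm

section main

variable (r t m : ℕ)

/-- the points: two copies of `ZMod r × Fin t` and `m` further points -/
abbrev Pt : Type := ((ZMod r × Fin t) ⊕ (ZMod r × Fin t)) ⊕ Fin m

variable {r t m}

/-- first copy -/
def one (x : Perm (ZMod r × Fin t)) : Perm (Pt r t m) := Equiv.sumCongr (Equiv.sumCongr x (Equiv.refl _)) (Equiv.refl _)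

/-- second copy -/
def two (x : Perm (ZMod r × Fin t)) : Perm (Pt r t m) := Equiv.sumCongr (Equiv.sumCongr (Equiv.refl _) x) (Equiv.refl _)

theorem one_mul_two (x y : Perm (ZMod r × Fin t)) :
    (one x : Perm (Pt r t m)) * two y = two y * one x := by
  ext b; rcases b with (b | b) | b <;> rfl

theorem both_apply (x y : Perm (ZMod r × Fin t)) :
    (one x : Perm (Pt r t m)) * two y = Equiv.sumCongr (Equiv.sumCongr x y) (Equiv.refl _) := by
  ext b; rcases b with (b | b) | b <;> rfl

/-- the exchange of the two copies -/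
def exch : Perm (Pt r t m) := Equiv.sumCongr (Equiv.sumComm _ _) (Equiv.refl _)

theorem exch_one (x : Perm (ZMod r × Fin t)) : (exch : Perm (Pt r t m)) * one x * exch⁻¹ = two x := by
  rw [mul_inv_eq_iff_eq_mul]
  ext b; rcases b with (b | b) | b <;> rfl

/-- a transposition outside -/
def outs (hm : 2 ≤ m) : Perm (Pt r t m) :=
  Equiv.sumCongr (Equiv.refl _) (Equiv.swap ⟨0, by omega⟩ ⟨1, by omega⟩)

theorem outs_comm (hm : 2 ≤ m) (x : Perm (ZMod r × Fin t)) : outs hm * one x = one x * outs hm := by
  ext b; rcases b with (b | b) | b <;> rfl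

theorem sign_outs [NeZero r] (hm : 2 ≤ m) : sign (outs (r := r) (t := t) hm) = -1 := by
  have h : outs (r := r) (t := t) hm = Equiv.sumCongr 1 (Equiv.swap ⟨0, by omega⟩ ⟨1, by omega⟩) := rfl
  rw [h]
  rw [Equiv.Perm.sign_sumCongr, map_one, one_mul, Equiv.Perm.sign_swap]
  intro h
  simp at h

theorem sign_one [NeZero r] (x : Perm (ZMod r × Fin t)) : sign (one x : Perm (Pt r t m)) = sign x := by
  have h : (one x : Perm (Pt r t m)) = Equiv.sumCongr (Equiv.sumCongr x 1) 1 := rfl
  rw [h, Equiv.Perm.sign_sumCongr, Equiv.Perm.sign_sumCongr, map_one, map_one, mul_one, mul_one]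

/-- an even permutation exchanging the two copies -/
theorem exists_even [NeZero r] (hm : 2 ≤ m) : ∃ σ : alternatingGroup (Pt r t m), ∀ x : Perm (ZMod r × Fin t),
    (σ : Perm (Pt r t m)) * one x * (σ : Perm (Pt r t m))⁻¹ = two x := by
  rcases Int.units_eq_one_or (sign (exch : Perm (Pt r t m))) with h | h
  · exact ⟨⟨exch, by rw [mem_alternatingGroup]; exact h⟩, exch_one⟩
  · refine ⟨⟨exch * outs hm, ?_⟩, fun x => ?_⟩
    · rw [mem_alternatingGroup, map_mul, h, sign_outs]; rfl
    · show exch * outs hm * one x * (exch * outs hm)⁻¹ = two x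
      rw [← exch_one, mul_inv_rev, mul_assoc exch, outs_comm]
      group

/-- the first copy, in the alternating group -/
def oneA [NeZero r] : alternatingGroup (ZMod r × Fin t) →* alternatingGroup (Pt r t m) where
  toFun x := ⟨one x, by rw [mem_alternatingGroup, sign_one]; exact mem_alternatingGroup.1 x.2⟩
  map_one' := by
    apply Subtype.ext
    ext b; rcases b with (b | b) | b <;> rfl
  map_mul' x y := by
    apply Subtype.ext
    ext b; rcases b with (b | b) | b <;> rfl

theorem card_pt [NeZero r] : Fintype.card (Pt r t m) = 2 * (r * t) + m := by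
  simp [Pt, ZMod.card]; ring

variable [Fact r.Prime] [NeZero r]

/-- every point is in the orbit of a representative -/
theorem exists_rep {g : (ZMod r)ˣ} (hg : ∀ x : (ZMod r)ˣ, x ∈ Subgroup.zpowers g) (x : ZMod r) :
    ∃ a ∈ ({0, 1, (g : ZMod r)} : Finset (ZMod r)), ∃ j : ℕ, (((g ^ 2) ^ j : (ZMod r)ˣ) : ZMod r) * a = x := by
  by_cases hx : x = 0
  · exact ⟨0, by simp, 0, by simp [hx]⟩
  · obtain ⟨n, hn⟩ := (mem_powers_iff_mem_zpowers.2 (hg (Units.mk0 x hx)))
    have hn' : g ^ n = Units.mk0 x hx := hn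
    have hx' : ((g ^ n : (ZMod r)ˣ) : ZMod r) = x := by rw [hn']; rfl
    rcases Nat.even_or_odd' n with ⟨k, hk | hk⟩
    · refine ⟨1, by simp, k, ?_⟩
      rw [mul_one, ← hx', hk, pow_mul]
    · refine ⟨g, by simp, k, ?_⟩
      rw [← hx', hk, ← Units.val_mul, pow_succ g (2 * k), pow_mul]

/-- `diA g` in both copies -/
theorem both_pow (g : (ZMod r)ˣ) (j : ℕ) :
    ((one (dil r t (g ^ 2)) : Perm (Pt r t m)) * two (dil r t (g ^ 2))) ^ j
      = Equiv.sumCongr (Equiv.sumCongr (dil r t ((g ^ 2) ^ j)) (dil r t ((g ^ 2) ^ j))) (Equiv.refl _) := by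
  induction j with
  | zero => ext b; rcases b with (b | b) | b <;> simp
  | succ j ih =>
    rw [pow_succ, ih, both_apply]
    ext b; rcases b with (b | b) | b <;> simp [pow_succ, mul_assoc]

/-- the centraliser of the element -/
theorem card_cent (ht : 0 < t) (g : (ZMod r)ˣ) (hg : ∀ x : (ZMod r)ˣ, x ∈ Subgroup.zpowers g) :
    Nat.card (Subgroup.centralizer
      ({(one (dil r t (g ^ 2)) : Perm (Pt r t m)) * two (dil r t (g ^ 2))} : Set (Perm (Pt r t m))))
      ≤ (2 * (r * t) + m) ^ (6 * t + m) := by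
  classical
  set S : Finset (ZMod r × Fin t) := ({0, 1, (g : ZMod r)} : Finset (ZMod r)) ×ˢ Finset.univ with hS
  have hScard : S.card ≤ 3 * t := by
    rw [hS, Finset.card_product, Finset.card_univ, Fintype.card_fin]
    exact Nat.mul_le_mul_right _ Finset.card_le_three
  have hSrep : ∀ b : ZMod r × Fin t, ∃ s ∈ S, ∃ j : ℕ, dil r t ((g ^ 2) ^ j) s = b := by
    rintro ⟨x, i⟩
    obtain ⟨a, ha, j, hj⟩ := exists_rep hg x
    refine ⟨(a, i), ?_, j, ?_⟩
    · rw [hS, Finset.mem_product]; exact ⟨ha, Finset.mem_univ _⟩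
    · rw [dil_apply]; exact Prod.ext hj rfl
  set T : Finset (Pt r t m) := ((S.disjSum S).disjSum Finset.univ) with hT
  have hTcard : T.card ≤ 6 * t + m := by
    rw [hT, Finset.card_disjSum, Finset.card_disjSum, Finset.card_univ, Fintype.card_fin]
    omega
  have h1 := card_centralizer_le ((one (dil r t (g ^ 2)) : Perm (Pt r t m)) * two (dil r t (g ^ 2))) T (by
    intro b
    rcases b with (b | b) | b
    · obtain ⟨s, hs, j, hj⟩ := hSrep b
      refine ⟨Sum.inl (Sum.inl s), by simp [hT, hs], j, ?_⟩
      rw [both_pow]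
      exact congrArg (fun z => Sum.inl (Sum.inl z)) hj
    · obtain ⟨s, hs, j, hj⟩ := hSrep b
      refine ⟨Sum.inl (Sum.inr s), by simp [hT, hs], j, ?_⟩
      rw [both_pow]
      exact congrArg (fun z => Sum.inl (Sum.inr z)) hj
    · exact ⟨Sum.inr b, by simp [hT], 0, rfl⟩)
  rw [card_pt] at h1
  refine h1.trans (Nat.pow_le_pow_right ?_ hTcard)
  have := Nat.pos_of_ne_zero (NeZero.ne r)
  have := Nat.mul_pos this ht
  omega

/-- **The element.** `π : L → Alt` onto, central kernel of exponent two, `L` perfect: `y ∈ L` has a non-zero fixed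
vector in every `L`-module of exponent prime to `r` (`p` of the hub), and the centraliser of its image is small. -/
theorem exists_elt.{u, v} (hr : r ≠ 2) (ht : 0 < t) (h5 : 5 ≤ r * t) (hm : 2 ≤ m) {L : Type u} [Group L]
    (hL : commutator L = ⊤) (π : L →* alternatingGroup (Pt r t m)) (hπ : Function.Surjective π)
    (hZ : π.ker ≤ Subgroup.center L) (h2 : ∀ z ∈ π.ker, z * z = 1) :
    ∃ y : L, (∀ p : ℕ, r.Coprime p → ∀ (V : Type v) [AddCommGroup V] [DistribMulAction L V], Nontrivial V →
        (∀ v : V, p • v = 0) → ∃ w : V, w ≠ 0 ∧ y • w = w) ∧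
      Nat.card (Subgroup.centralizer ({((π y : alternatingGroup (Pt r t m)) : Perm (Pt r t m))} :
        Set (Perm (Pt r t m)))) ≤ (2 * (r * t) + m) ^ (6 * t + m) := by
  classical
  obtain ⟨g, hg⟩ := IsCyclic.exists_generator (α := (ZMod r)ˣ)
  obtain ⟨σ, hσ⟩ := exists_even (r := r) (t := t) (m := m) hm
  have hcardP : Nat.card (ZMod r × Fin t) = r * t := by simp
  have hP : commutator (alternatingGroup (ZMod r × Fin t)) = ⊤ :=
    commutator_alternatingGroup_eq_top (by rw [hcardP]; exact h5)
  have hcoe : ∀ x : alternatingGroup (ZMod r × Fin t),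
      ((σ * oneA x * σ⁻¹ : alternatingGroup (Pt r t m)) : Perm (Pt r t m)) = two (x : Perm (ZMod r × Fin t)) :=
    fun x => hσ x
  obtain ⟨φ, hφ⟩ := exists_lift hP π hπ hZ h2 (oneA (r := r) (t := t) (m := m)) σ (by
    intro x y
    apply Subtype.ext
    show (one (x : Perm (ZMod r × Fin t)) : Perm (Pt r t m)) * _ = _ * (one (x : Perm (ZMod r × Fin t)))
    rw [hcoe]
    exact one_mul_two _ _)
  have hφ' : ∀ x : alternatingGroup (ZMod r × Fin t), ((π (φ x) : alternatingGroup (Pt r t m)) : Perm (Pt r t m))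
      = one (x : Perm (ZMod r × Fin t)) * two (x : Perm (ZMod r × Fin t)) := by
    intro x
    rw [hφ, Subgroup.coe_mul, hcoe]
    rfl
  refine ⟨φ (diA g), ?_, ?_⟩
  · intro p hrp V _ _ hV hpV
    by_cases htriv : ∀ (l : L) (v : V), l • v = v
    · obtain ⟨w, hw⟩ := exists_ne (0 : V)
      exact ⟨w, hw, htriv _ _⟩
    · letI : DistribMulAction (alternatingGroup (ZMod r × Fin t)) V := DistribMulAction.compHom V φ
      have hact : ∀ (x : alternatingGroup (ZMod r × Fin t)) (v : V), x • v = φ x • v := fun _ _ => rfl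
      by_cases hE : ∃ v : V, trA (t := t) hr (Multiplicative.ofAdd (1 : ZMod r)) • v ≠ v
      · obtain ⟨v, hv⟩ := hE
        exact exists_fixed_alt hr ht hpV hrp g hv
      · exfalso
        push Not at hE
        apply htriv
        -- the kernel of the action
        let K : Subgroup L := (DistribMulAction.toAddMonoidEnd L V).ker
        have hKmem : ∀ l : L, l ∈ K ↔ ∀ v : V, l • v = v := by
          intro l
          constructor
          · intro hl v
            exact congrArg (fun f : AddMonoid.End V => f v) (MonoidHom.mem_ker.1 hl)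
          · intro hl
            rw [MonoidHom.mem_ker]
            ext v
            exact hl v
        have hKn : K.Normal := inferInstance
        have hin : φ (trA hr (Multiplicative.ofAdd 1)) ∈ K := (hKmem _).2 hE
        have hcardA : 5 ≤ Nat.card (Pt r t m) := by
          rw [Nat.card_eq_fintype_card, card_pt]; omega
        haveI : IsSimpleGroup (alternatingGroup (Pt r t m)) := alternatingGroup.isSimpleGroup hcardA
        have hmapn : (K.map π).Normal := hKn.map π hπ
        have hne : K.map π ≠ ⊥ := by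
          intro hbot
          have h1 : π (φ (trA hr (Multiplicative.ofAdd 1))) = 1 := by
            have : π (φ (trA hr (Multiplicative.ofAdd 1))) ∈ K.map π := ⟨_, hin, rfl⟩
            rwa [hbot, Subgroup.mem_bot] at this
          have h3 := hφ' (trA hr (Multiplicative.ofAdd 1))
          rw [h1] at h3
          have h4 := congrArg (fun f : Perm (Pt r t m) => f (Sum.inl (Sum.inl ((0 : ZMod r), (⟨0, ht⟩ : Fin t))))) h3
          rw [both_apply] at h4
          have h5' : ((0 : ZMod r), (⟨0, ht⟩ : Fin t)) = trn r t (Multiplicative.ofAdd 1) (0, ⟨0, ht⟩) :=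
            Sum.inl_injective (Sum.inl_injective h4)
          have h6 := congrArg Prod.fst h5'
          simp at h6
        have htop : K.map π = ⊤ := (hmapn.eq_bot_or_eq_top).resolve_left hne
        have hsup : ∀ l : L, ∃ k ∈ K, ∃ z ∈ π.ker, l = k * z := by
          intro l
          have : π l ∈ K.map π := by rw [htop]; trivial
          obtain ⟨k, hk, hkl⟩ := this
          refine ⟨k, hk, k⁻¹ * l, ?_, by group⟩
          rw [MonoidHom.mem_ker, map_mul, map_inv, hkl]; group
        have hKtop : K = ⊤ := by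
          rw [eq_top_iff, ← hL, commutator_def, Subgroup.commutator_le]
          intro a _ b _
          obtain ⟨k, hk, z, hz, rfl⟩ := hsup a
          obtain ⟨k', hk', z', hz', rfl⟩ := hsup b
          have c1 : ∀ x : L, x * z = z * x := Subgroup.mem_center_iff.1 (hZ hz)
          have c2 : ∀ x : L, x * z' = z' * x := Subgroup.mem_center_iff.1 (hZ hz')
          have : k * z * (k' * z') * (k * z)⁻¹ * (k' * z')⁻¹ = k * k' * k⁻¹ * k'⁻¹ := by
            calc k * z * (k' * z') * (k * z)⁻¹ * (k' * z')⁻¹
                = k * (z * (k' * z')) * z⁻¹ * k⁻¹ * z'⁻¹ * k'⁻¹ := by group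
              _ = k * k' * (z' * k⁻¹) * z'⁻¹ * k'⁻¹ := by rw [← c1 (k' * z')]; group
              _ = k * k' * k⁻¹ * k'⁻¹ := by rw [← c2 k⁻¹]; group
          rw [commutatorElement_def, this]
          exact K.mul_mem (K.mul_mem (K.mul_mem hk hk') (K.inv_mem hk)) (K.inv_mem hk')
        intro l v
        exact (hKmem l).1 (by rw [hKtop]; trivial) v
  · rw [hφ', coe_diA]
    exact card_cent ht g hg

end main

end Cfsg.Agent.H192.Af
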